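import Cfsg.Agent.StdCo0.Fusion
import Cfsg.Agent.Invol.ZStar
import Cfsg.Prelude.Def_Local

/-!
A standard component isomorphic to the double cover with cyclic two-part of the centraliser.
-/

set_option autoImplicit false

namespace Cfsg.Agent.StdCo0

open Cfsg Cfsg.Agent Subgroup

theorem normal_of_standard {G : Type*} [Group G] [Finite G] (hO : Cfsg.oddCore G = ⊥)
    (A : Subgroup G) (hA : Cfsg.IsStandardSubgroup A) (e : ↥A ≃* ↥Cfsg.Co0)
    (hR : ∀ R : Sylow 2 ↥(centralizer (A : Set G)),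
      IsCyclic ↥(R : Subgroup ↥(centralizer (A : Set G)))) : A.Normal := by
  classical
  obtain ⟨hQ, ⟨hev, htight⟩, -, hnorm⟩ := hA
  set K := centralizer (A : Set G) with hKdef
  set ι : ↥Co0 →* G := A.subtype.comp e.symm.toMonoidHom with hι
  have inj : Function.Injective ι := A.subtype_injective.comp e.symm.injective
  have hperf : Group.IsPerfect ↥Co0 := by
    haveI := hQ.1
    exact Group.IsPerfect.ofSurjective (f := e.toMonoidHom) e.surjective
  have memK : ∀ {k : G}, k ∈ K ↔ ∀ b, Commute k (ι b) := fun {k} => by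
    refine ⟨fun h b => (mem_centralizer_iff.1 h _ (e.symm b).2).symm, fun h => ?_⟩
    refine mem_centralizer_iff.2 fun a ha => ?_
    have := h (e ⟨a, ha⟩)
    rw [hι] at this
    simp only [MonoidHom.comp_apply, MulEquiv.coe_toMonoidHom, MulEquiv.symm_apply_apply] at this
    exact this.symm
  set z : G := ι Leech.zneg with hzdef
  have zA : z ∈ A := (e.symm Leech.zneg).2
  have zK : z ∈ K := memK.2 fun b => by
    rw [hzdef, Commute, SemiconjBy, ← map_mul, ← map_mul, zneg_central]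
  have z1 : z ≠ 1 := fun h => zneg_ne_one (inj (h.trans (map_one ι).symm))
  have z2 : z * z = 1 := by rw [hzdef, ← map_mul, zneg_mul_self, map_one]
  -- the centraliser of `z` normalises the component
  have hCN : ∀ g : G, Commute g z → g ∈ normalizer (A : Set G) := fun g hg => by
    by_contra hn
    rw [hnorm] at hn
    have hodd := htight g hn
    have hz' : z ∈ K ⊓ K.map (MulAut.conj g).toMonoidHom :=
      ⟨zK, ⟨z, zK, by simp [hg.eq]⟩⟩
    have hd := Subgroup.orderOf_dvd_natCard _ hz'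
    rw [orderOf_eq_prime (by rw [pow_two, z2]) z1] at hd
    exact Nat.not_even_iff_odd.2 hodd (even_iff_two_dvd.2 hd)
  -- the centraliser has one involution and a normal two-complement
  have : Fact (Nat.Prime 2) := ⟨Nat.prime_two⟩
  obtain ⟨P⟩ : Nonempty (Sylow 2 ↥K) := inferInstance
  have hcyc := hR P
  have huniq : ∀ k : G, k ∈ K → k * k = 1 → k = 1 ∨ k = z := fun k hk k2 => by
    by_cases k1 : k = 1
    · exact .inl k1
    refine .inr ?_
    have hkz : Commute k z := (memK.1 hk) _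
    set H : Subgroup ↥K := Subgroup.closure {⟨k, hk⟩, ⟨z, zK⟩}
    have hH : IsPGroup 2 H := by
      intro w
      refine ⟨1, Subtype.ext ?_⟩
      obtain ⟨w, hw⟩ := w
      show w ^ 2 ^ 1 = 1
      have hcomm : ∀ a ∈ ({⟨k, hk⟩, ⟨z, zK⟩} : Set ↥K), ∀ b ∈ ({⟨k, hk⟩, ⟨z, zK⟩} : Set ↥K),
          a * b = b * a := by
        rintro a (rfl | rfl) b (rfl | rfl) <;> first | rfl | exact Subtype.ext hkz.eq |
          exact Subtype.ext hkz.eq.symm
      induction hw using Subgroup.closure_induction with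
      | mem a ha =>
        rcases ha with rfl | rfl <;> exact Subtype.ext (by simp [pow_two, k2, z2])
      | one => simp
      | mul a b ha hb iha ihb =>
        have : Commute a b := by
          haveI := Subgroup.isMulCommutative_closure hcomm
          exact congrArg Subtype.val (mul_comm' (⟨a, ha⟩ : H) ⟨b, hb⟩)
        rw [this.mul_pow, iha, ihb, one_mul]
      | inv a ha iha => rw [inv_pow, iha, inv_one]
    obtain ⟨T, hT⟩ := hH.exists_le_sylow
    have := hR T
    by_contra hne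
    haveI := Fintype.ofFinite ↥(T : Subgroup ↥K)
    have hc : (Finset.univ.filter fun x : ↥(T : Subgroup ↥K) => x ^ 2 = 1).card ≤ 2 := by
      convert IsCyclic.card_pow_eq_one_le (α := (T : Subgroup ↥K)) (n := 2) (by norm_num)
    let a : ↥(T : Subgroup ↥K) := ⟨⟨k, hk⟩, hT (subset_closure (Or.inl rfl))⟩
    let b : ↥(T : Subgroup ↥K) := ⟨⟨z, zK⟩, hT (subset_closure (Or.inr rfl))⟩
    have h3 : ({1, a, b} : Finset ↥(T : Subgroup ↥K)).card = 3 := by
      rw [Finset.card_eq_three]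
      exact ⟨1, a, b, fun h => k1 (congrArg (fun x : ↥(T : Subgroup ↥K) => ((x : ↥K) : G)) h).symm,
        fun h => z1 (congrArg (fun x : ↥(T : Subgroup ↥K) => ((x : ↥K) : G)) h).symm,
        fun h => hne (congrArg (fun x : ↥(T : Subgroup ↥K) => ((x : ↥K) : G)) h), rfl⟩
    have hsub := Finset.card_le_card (s := ({1, a, b} : Finset ↥(T : Subgroup ↥K)))
      (t := Finset.univ.filter fun x => x ^ 2 = 1) fun x hx => by
        simp only [Finset.mem_insert, Finset.mem_singleton] at hx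
        rcases hx with rfl | rfl | rfl <;>
          simp only [Finset.mem_filter, Finset.mem_univ, true_and, one_pow] <;>
          exact Subtype.ext (Subtype.ext (by simp [a, b, pow_two, k2, z2]))
    omega
  obtain ⟨N, hNn, hcompl⟩ : ∃ N : Subgroup ↥K, N.Normal ∧ IsComplement' N (P : Subgroup ↥K) := by
    refine ⟨_, inferInstance, MonoidHom.ker_transferSylow_isComplement' P ?_⟩
    exact IsCyclic.normalizer_le_centralizer ((Nat.minFac_eq_two_iff _).2 (even_iff_two_dvd.1 hev))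
      hcyc
  haveI := hNn
  have hoddN : Odd (Nat.card N) := by
    rw [Nat.odd_iff, ← Nat.two_dvd_ne_zero, ← hcompl.index_eq_card]
    exact P.not_dvd_index
  have hder : ∀ k l : ↥K, k * l * k⁻¹ * l⁻¹ ∈ N := fun k l => by
    obtain ⟨⟨m, p⟩, rfl⟩ := hcompl.2 k
    obtain ⟨⟨m', p'⟩, rfl⟩ := hcompl.2 l
    rw [← QuotientGroup.eq_one_iff]
    set f := QuotientGroup.mk' N with hf
    show f ((m : ↥K) * p * ((m' : ↥K) * p') * ((m : ↥K) * p)⁻¹ * ((m' : ↥K) * p')⁻¹) = 1
    have hm : f (m : ↥K) = 1 := (QuotientGroup.eq_one_iff _).2 m.2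
    have hm' : f (m' : ↥K) = 1 := (QuotientGroup.eq_one_iff _).2 m'.2
    haveI := hcyc
    haveI : IsMulCommutative ↥(P : Subgroup ↥K) := IsCyclic.isMulCommutative
    have hpp : f (p : ↥K) * f p' = f p' * f p := by
      rw [← map_mul, ← map_mul]
      exact congrArg f (congrArg Subtype.val (mul_comm' p p'))
    rw [map_mul, map_mul, map_mul, map_inv, map_inv, map_mul, map_mul, hm, hm', one_mul, one_mul,
      hpp]
    group
  -- the decomposition of the centraliser of `z`
  have hdec : ∀ g : G, Commute g z → ∃ a k, (∀ b, Commute k (ι b)) ∧ g = ι a * k := fun g hg => by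
    have hgN := hCN g hg
    let φ : MulAut ↥A :=
      { toFun := fun a => ⟨g * a * g⁻¹, (mem_normalizer_iff.1 hgN a).1 a.2⟩
        invFun := fun a => ⟨g⁻¹ * a * g, (mem_normalizer_iff.1 hgN _).2 (by simp [mul_assoc])⟩
        left_inv := fun a => Subtype.ext (by simp [mul_assoc])
        right_inv := fun a => Subtype.ext (by simp [mul_assoc])
        map_mul' := fun a b => Subtype.ext (by simp [mul_assoc]) }
    obtain ⟨c, hc⟩ := aut_inner hperf ((e.symm.trans φ).trans e)
    refine ⟨c, (ι c)⁻¹ * g, fun b => ?_, by group⟩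
    have h := congrArg (fun x => ((e.symm x : ↥A) : G)) (hc b)
    simp only [MulEquiv.trans_apply, MulEquiv.symm_apply_apply, map_mul, map_inv,
      Subgroup.coe_mul, Subgroup.coe_inv] at h
    change g * ι b * g⁻¹ = ι c * ι b * (ι c)⁻¹ at h
    unfold Commute SemiconjBy
    calc (ι c)⁻¹ * g * ι b = (ι c)⁻¹ * (g * ι b * g⁻¹) * g := by group
      _ = ι b * ((ι c)⁻¹ * g) := by rw [h]; group
  have htwo : ∀ c d : G, Commute c z → Commute d z → ∀ n : ℕ,
      (c * d * c⁻¹ * d⁻¹) ^ 2 ^ n = 1 → ∃ a, c * d * c⁻¹ * d⁻¹ = ι a := by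
    intro c d hc hd n hn
    obtain ⟨a, k, hk, rfl⟩ := hdec c hc
    obtain ⟨b, l, hl, rfl⟩ := hdec d hd
    set v := a * b * a⁻¹ * b⁻¹
    set m := k * l * k⁻¹ * l⁻¹ with hm
    have e1 : ι a * k * (ι b * l) * (ι a * k)⁻¹ * (ι b * l)⁻¹ = ι v * m := by
      have q1 : k * ι b = ι b * k := (hk b).eq
      have q2 : l * (ι a)⁻¹ = (ι a)⁻¹ * l := (hl a).inv_right.eq
      have q3 : k * (ι a)⁻¹ = (ι a)⁻¹ * k := (hk a).inv_right.eq
      have q4 : k⁻¹ * (ι a)⁻¹ = (ι a)⁻¹ * k⁻¹ := (hk a).inv_inv.eq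
      have q5 : l⁻¹ * (ι b)⁻¹ = (ι b)⁻¹ * l⁻¹ := (hl b).inv_inv.eq
      have q6 : (k * l * k⁻¹) * (ι b)⁻¹ = (ι b)⁻¹ * (k * l * k⁻¹) :=
        (((hk b).mul_left (hl b)).mul_left (hk b).inv_left).inv_right.eq
      calc ι a * k * (ι b * l) * (ι a * k)⁻¹ * (ι b * l)⁻¹
          = ι a * (k * ι b) * l * (k⁻¹ * (ι a)⁻¹) * (l⁻¹ * (ι b)⁻¹) := by group
        _ = ι a * (ι b * k) * l * ((ι a)⁻¹ * k⁻¹) * ((ι b)⁻¹ * l⁻¹) := by rw [q1, q4, q5]
        _ = ι a * ι b * k * (l * (ι a)⁻¹) * k⁻¹ * (ι b)⁻¹ * l⁻¹ := by group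
        _ = ι a * ι b * (k * (ι a)⁻¹) * l * k⁻¹ * (ι b)⁻¹ * l⁻¹ := by rw [q2]; group
        _ = ι a * ι b * (ι a)⁻¹ * ((k * l * k⁻¹) * (ι b)⁻¹) * l⁻¹ := by rw [q3]; group
        _ = ι v * m := by rw [q6, map_mul, map_mul, map_mul, map_inv, map_inv, hm]; group
    rw [e1] at hn ⊢
    have hmK : ∀ b, Commute m (ι b) := fun b =>
      (((hk b).mul_left (hl b)).mul_left (hk b).inv_left).mul_left (hl b).inv_left
    rw [(hmK v).symm.mul_pow] at hn
    -- the odd part is trivial
    have hcen : v ^ 2 ^ n ∈ center ↥Co0 := mem_center_iff.2 fun b => inj (by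
      rw [map_mul, map_mul, map_pow, eq_inv_of_mul_eq_one_left hn]
      exact (((hmK b).pow_left _).inv_left.eq).symm)
    let m' : ↥K := ⟨k, memK.2 hk⟩ * ⟨l, memK.2 hl⟩ * (⟨k, memK.2 hk⟩ : ↥K)⁻¹ * (⟨l, memK.2 hl⟩ : ↥K)⁻¹
    have hodd : Odd (orderOf m) := by
      have h := hoddN.of_dvd_nat (Subgroup.orderOf_dvd_natCard N (hder ⟨k, memK.2 hk⟩ ⟨l, memK.2 hl⟩))
      rwa [← Subgroup.orderOf_coe] at h
    have hm2 : m ^ 2 ^ n = 1 := by
      rcases center_cases hcen with h | h
      · rwa [← map_pow, h, map_one, one_mul] at hn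
      · exfalso
        rw [← map_pow, h] at hn
        have hzo : orderOf (m ^ 2 ^ n) = 2 := by
          rw [eq_inv_of_mul_eq_one_right hn, orderOf_inv]
          exact orderOf_eq_prime (by rw [pow_two]; exact z2) z1
        have hd : orderOf (m ^ 2 ^ n) ∣ orderOf m := orderOf_pow_dvd _
        rw [hzo] at hd
        exact Nat.not_even_iff_odd.2 hodd (even_iff_two_dvd.2 hd)
    have hm1 : m = 1 := by
      have hcop : Nat.Coprime (2 ^ n) (orderOf m) := (Nat.coprime_two_left.2 hodd).pow_left n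
      have := pow_gcd_eq_one.2 ⟨hm2, pow_orderOf_eq_one m⟩
      rwa [hcop, pow_one] at this
    exact ⟨v, by rw [hm1, mul_one]⟩
  let S : Hyp G :=
    { ι := ι
      inj := inj
      dec := hdec
      uniq := fun k hk => huniq k (memK.2 hk)
      two := htwo }
  have hiso := S.isolated
  have hzc : ∀ g : G, Commute g z := fun g => by
    have h := Invol.zstar hiso g
    rw [hO, mem_bot, mul_inv_eq_one, mul_inv_eq_iff_eq_mul] at h
    exact h.symm
  exact normalizer_eq_top_iff.1 (eq_top_iff.2 fun g _ => hCN g (hzc g))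

end Cfsg.Agent.StdCo0
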