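import Cfsg.Agent.CoSection.CentCert

/-!
Commutators of two-power order in a centraliser, and evaluation of words in explicit elements.
-/

set_option autoImplicit false

namespace Cfsg.Agent.StdCo0

open Cfsg Cfsg.Agent.CoSection

/-- Products of commutators of two-power order of elements commuting with `v`. -/
def comS (v : ↥Co0) : Subgroup ↥Co0 :=
  Subgroup.closure {t | ∃ c d : ↥Co0, Commute c v ∧ Commute d v ∧
    t = c * d * c⁻¹ * d⁻¹ ∧ ∃ n : ℕ, t ^ 2 ^ n = 1}

theorem commute_of_comS {v x : ↥Co0} (hx : x ∈ comS v) : Commute x v := by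
  have hle : comS v ≤ Subgroup.centralizer ({v} : Set ↥Co0) := by
    refine (Subgroup.closure_le _).2 ?_
    rintro _ ⟨c, d, hc, hd, rfl, -⟩
    exact Subgroup.mem_centralizer_singleton_iff.2
      (((hc.mul_left hd).mul_left hc.inv_left).mul_left hd.inv_left).eq
  exact Subgroup.mem_centralizer_singleton_iff.1 (hle hx)

/-- A sign change with its action on lists. -/
def sgnGen (m : ℕ) (hm : Leech.bitWord m ∈ golayCode) : Leech.LGen where
  g := Leech.signCo0 (Leech.bitWord m) hm
  f l := (List.range 24).map fun i => if m.testBit i then -(l.getD i 0) else l.getD i 0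
  spec v := by
    refine List.map_congr_left fun i hi => ?_
    have hi' : i < 24 := List.mem_range.1 hi
    rw [Leech.toL_getD _ _ hi', Leech.signCo0_apply]
    simp only [Leech.negOn, Leech.bitWord, Leech.idx_ptOf i hi']
    cases m.testBit i <;> simp

/-- The inverse of a matrix element, acting by the transpose. -/
def invG (M : List (List ℤ)) (h : matOK M = true) : Leech.LGen where
  g := (matGen M h).g⁻¹
  f := matF (tr M)
  spec v := by
    rw [show (((matGen M h).g⁻¹ • v : leechLattice) : GolayPt → ℤ) = img (tr M) v from rfl]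
    exact toL_img (tr M) (by simp [tr]) _

theorem commute_of {A B : Leech.LGen} (h : eqB (A.f ∘ B.f) (B.f ∘ A.f) = true) :
    Commute A.g B.g :=
  g_eq (A := A.comp B) (B := B.comp A) h

theorem sgn_inv {m : ℕ} (hm : Leech.bitWord m ∈ golayCode) :
    (sgnGen m hm).g⁻¹ = (sgnGen m hm).g := by
  refine inv_eq_of_mul_eq_one_right (Leech.ext_of_oct fun i => Subtype.ext (funext fun q => ?_))
  rw [mul_smul, one_smul]
  simp only [sgnGen, Leech.signCo0_apply, Leech.negOn]
  split_ifs <;> simp

/-- A commutator from lists for the elements and their inverses. -/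
theorem mem_comS {v C D C' D' : Leech.LGen} (hC : C'.g = C.g⁻¹) (hD : D'.g = D.g⁻¹)
    (h1 : eqB (C.f ∘ v.f) (v.f ∘ C.f) = true) (h2 : eqB (D.f ∘ v.f) (v.f ∘ D.f) = true)
    (h8 : eqB (powG (prodG [C, D, C', D']) 8).f oneG.f = true) :
    (prodG [C, D, C', D']).g ∈ comS v.g := by
  refine Subgroup.subset_closure ⟨C.g, D.g, commute_of h1, commute_of h2, ?_, 3, ?_⟩
  · simp [prodG_g, hC, hD, mul_assoc]
  · rw [show (2 : ℕ) ^ 3 = 8 by norm_num, ← powG_g]
    exact g_eq h8

theorem isConj_of {A B P : Leech.LGen} (h : eqB (P.f ∘ A.f) (B.f ∘ P.f) = true) :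
    IsConj A.g B.g :=
  isConj_iff.2 ⟨P.g, mul_inv_eq_iff_eq_mul.2 (g_eq (A := P.comp A) (B := B.comp P) h)⟩

end Cfsg.Agent.StdCo0
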