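import Cfsg.Agent.StdCo0.Mat

/-!
No element of order 7 or 13 commutes with the sign change of a dodecad, and consequences.
-/

set_option autoImplicit false

namespace Cfsg.Agent.StdCo0

open Cfsg Cfsg.Agent Matrix

/-- A lattice vector vanishing somewhere is twice a word modulo two. -/
theorem half_mem {v : GolayPt → ℤ} (hv : v ∈ leechLattice) {q0 : GolayPt} (h0 : v q0 = 0) :
    ∃ y : GolayPt → ℤ, (∀ q, v q = 2 * y q) ∧ Leech.red2 y ∈ golayCode := by
  obtain ⟨m, y, hy, -, hc⟩ := Leech.mem_lattice_iff.1 hv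
  obtain ⟨k, hk⟩ : (2 : ℤ) ∣ m := ⟨-y q0, by have := hy q0; omega⟩
  refine ⟨fun q => y q + k, fun q => by rw [hy, hk]; ring, ?_⟩
  have e : Leech.red2 (fun q => y q + k) = Leech.red2 y + (k : ZMod 2) • (1 : GolayPt → ZMod 2) := by
    funext q
    simp [Leech.red2]
  rw [e]
  exact add_mem hc (Submodule.smul_mem _ _ Leech.one_mem)

theorem odd_val {a : ZMod 2} (h : a ≠ 0) : a = 1 := by revert a; decide

variable {c : GolayPt → ZMod 2} {hc : c ∈ golayCode}

/-- No octad lies in a dodecad. -/
theorem word_in_dodecad (hc : c ∈ golayCode) (h12 : hammingNorm c = 12) {d : GolayPt → ZMod 2}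
    (hd : d ∈ golayCode) (hsub : ∀ q, c q = 0 → d q = 0) : d = 0 ∨ d = c := by
  by_contra hcon
  push Not at hcon
  have h8 := Leech.eight_le_weight hd hcon.1
  have h8' := Leech.eight_le_weight (add_mem hd hc) fun e => hcon.2 (funext fun q => by
    have := congrFun e q
    simp only [Pi.add_apply, Pi.zero_apply] at this
    exact CharTwo.add_eq_zero.1 this)
  have key : hammingNorm d + hammingNorm (d + c) = hammingNorm c := by
    simp only [hammingNorm]
    rw [← Finset.card_union_of_disjoint]
    · congr 1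
      ext q
      simp only [Finset.mem_union, Finset.mem_filter, Finset.mem_univ, true_and, Pi.add_apply]
      by_cases hq : c q = 0
      · simp [hq, hsub q hq]
      · rw [odd_val hq]
        rcases (by decide : ∀ a : ZMod 2, a = 0 ∨ a = 1) (d q) with e | e <;> simp [e]
    · refine Finset.disjoint_filter.2 fun q _ hq hq' => ?_
      have hcq : c q ≠ 0 := fun e => hq (hsub q e)
      rw [Pi.add_apply, odd_val hq, odd_val hcq] at hq'
      exact hq' (CharTwo.add_self_eq_zero 1)
  omega

theorem coord_zero {g : ↥Co0} (hg : Commute g (Leech.signCo0 c hc)) {q i : GolayPt}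
    (hq : c q = 0) (hi : c i ≠ 0) :
    ((g • Leech.oct i : leechLattice) : GolayPt → ℤ) q = 0 := by
  have h := (off_zero hg hq hi).1
  rw [matQ, Matrix.of_apply, div_eq_zero_iff] at h
  exact_mod_cast h.resolve_right (by norm_num)

/-- An element of the centraliser of a dodecad sign change sends some frame vector of the dodecad
to the frame, unless all these images have one support of four points. -/
theorem frame_or_support {x : ↥Co0} (hxc : Commute x (Leech.signCo0 c hc))
    (h12 : hammingNorm c = 12) {i : GolayPt} (hi : c i ≠ 0)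
    (hnot : ((x • Leech.oct i : leechLattice) : GolayPt → ℤ) ∉ stdCross) :
    ∃ w : GolayPt → ℤ, (∀ q, ((x • Leech.oct i : leechLattice) : GolayPt → ℤ) q = 4 * w q) ∧
      (∀ q, c q = 0 → w q = 0) ∧ (∀ q, w q = 0 ∨ w q = 1 ∨ w q = -1) ∧
      hammingNorm (Leech.red2 w) ≤ 4 := by
  classical
  set v := ((x • Leech.oct i : leechLattice) : GolayPt → ℤ) with hvdef
  have hv0 : ∀ q, c q = 0 → v q = 0 := fun q hq => coord_zero hxc hq hi
  obtain ⟨q0, hq0⟩ : ∃ q0, c q0 = 0 := by
    by_contra h
    push Not at h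
    have : hammingNorm c = 24 := by
      rw [hammingNorm, Finset.filter_true_of_mem fun q _ => h q, Finset.card_univ, card_pt]
    omega
  obtain ⟨y, hy, hred⟩ : ∃ y : GolayPt → ℤ, (∀ q, v q = 2 * y q) ∧ Leech.red2 y ∈ golayCode :=
    half_mem (x • Leech.oct i).2 (hv0 q0 hq0)
  have hn : ∑ q, y q ^ 2 = 16 := by
    have h64 : sqNorm v = 64 := by rw [hvdef, Leech.sqNorm_smul, norm_oct]
    have : ∑ q, v q ^ 2 = 4 * ∑ q, y q ^ 2 := by
      rw [Finset.mul_sum]
      exact Finset.sum_congr rfl fun q _ => by rw [hy]; ring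
    rw [sqNorm, this] at h64
    omega
  have hy0 : ∀ q, c q = 0 → y q = 0 := fun q hq => by have := hv0 q hq; rw [hy] at this; omega
  rcases word_in_dodecad hc h12 hred (fun q hq => by simp [Leech.red2, hy0 q hq]) with h | h
  swap
  · -- twelve odd coordinates have squares adding up to 12 or at least 20
    exfalso
    have hodd : ∀ q, c q ≠ 0 → ¬ (2 : ℤ) ∣ y q := fun q hq hd => hq (by
      rw [← h]; exact (ZMod.intCast_zmod_eq_zero_iff_dvd _ 2).2 hd)
    have h9 : ∀ q, c q ≠ 0 → y q ^ 2 = 1 ∨ 9 ≤ y q ^ 2 := fun q hq => by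
      have := hodd q hq
      rcases (by omega : y q = 1 ∨ y q = -1 ∨ 3 ≤ y q ∨ y q ≤ -3) with e | e | e | e
      · exact .inl (by rw [e]; norm_num)
      · exact .inl (by rw [e]; norm_num)
      · exact .inr (by nlinarith)
      · exact .inr (by nlinarith)
    have hs : ∑ q ∈ Finset.univ.filter (fun q => c q ≠ 0), y q ^ 2 = 16 := by
      rw [← hn]
      refine Finset.sum_subset (Finset.subset_univ _) fun q _ hq => ?_
      rw [hy0 q (by simpa using hq)]; norm_num
    have hcard : (Finset.univ.filter fun q => c q ≠ 0).card = 12 := h12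
    by_cases hall : ∀ q ∈ Finset.univ.filter (fun q => c q ≠ 0), y q ^ 2 = 1
    · rw [Finset.sum_congr rfl hall, Finset.sum_const, hcard] at hs
      norm_num at hs
    · push Not at hall
      obtain ⟨q, hq, hq1⟩ := hall
      have h := Finset.add_sum_erase _ (fun q => y q ^ 2) hq
      have hge : ((Finset.univ.filter fun q => c q ≠ 0).erase q).card • (1 : ℤ) ≤
          ∑ p ∈ (Finset.univ.filter fun q => c q ≠ 0).erase q, y p ^ 2 :=
        Finset.card_nsmul_le_sum _ _ _ fun p hp => by
          rcases h9 p (by simpa using Finset.mem_of_mem_erase hp) with e | e <;> omega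
      rw [Finset.card_erase_of_mem hq, hcard] at hge
      have := (h9 q (by simpa using hq)).resolve_left hq1
      norm_num at hge h hs
      omega
  have heven : ∀ q, (2 : ℤ) ∣ y q := fun q =>
    (ZMod.intCast_zmod_eq_zero_iff_dvd _ 2).1 (congrFun h q)
  choose w hw using heven
  have hwn : ∑ q, w q ^ 2 = 4 := by
    have : ∑ q, y q ^ 2 = 4 * ∑ q, w q ^ 2 := by
      rw [Finset.mul_sum]
      exact Finset.sum_congr rfl fun q _ => by rw [hw]; ring
    omega
  have hle : ∀ q, w q ^ 2 ≤ 4 := fun q => by
    rw [← hwn]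
    exact Finset.single_le_sum (f := fun p => w p ^ 2) (fun p _ => sq_nonneg _) (Finset.mem_univ q)
  have hsmall : ∀ q, w q = 0 ∨ w q = 1 ∨ w q = -1 := fun q => by
    by_contra hcon
    have h1 := hle q
    have h2 : w q = 2 ∨ w q = -2 := by
      have : -2 ≤ w q := by nlinarith
      have : w q ≤ 2 := by nlinarith
      omega
    have hsq : w q ^ 2 = 4 := by rcases h2 with e | e <;> rw [e] <;> norm_num
    have hrest : ∀ p, p ≠ q → w p = 0 := fun p hp => by
      have h := Finset.add_sum_erase _ (fun r => w r ^ 2) (Finset.mem_univ q)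
      have hle' : w p ^ 2 ≤ ∑ r ∈ Finset.univ.erase q, w r ^ 2 :=
        Finset.single_le_sum (f := fun r => w r ^ 2) (fun r _ => sq_nonneg _)
          (Finset.mem_erase.2 ⟨hp, Finset.mem_univ p⟩)
      exact (pow_eq_zero_iff two_ne_zero).1 (le_antisymm (by omega) (sq_nonneg _))
    refine hnot ⟨q, 4 * w q * 1, ?_, funext fun p => ?_⟩
    · rcases h2 with e | e <;> rw [e] <;> norm_num
    · rw [hy, hw]
      by_cases hp : p = q
      · subst hp; simp; ring
      · simp [hrest p hp, Pi.single_eq_of_ne hp]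
  refine ⟨w, fun q => by rw [hy, hw]; ring,
    fun q hq => by have := hy0 q hq; rw [hw] at this; omega, hsmall, ?_⟩
  have hcard : ((hammingNorm (Leech.red2 w) : ℕ) : ℤ) ≤ 4 := by
    rw [← hwn, hammingNorm, Finset.card_filter, Nat.cast_sum]
    refine Finset.sum_le_sum fun q _ => ?_
    rcases hsmall q with e | e | e <;> simp [Leech.red2, e]
  exact_mod_cast hcard

/-- Some frame vector of the dodecad stays in the frame under an element of odd prime order. -/
theorem exists_frame {x : ↥Co0} (hxc : Commute x (Leech.signCo0 c hc)) (h12 : hammingNorm c = 12)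
    {n : ℕ} (hn : x ^ (n + 1) = 1) :
    ∃ i, c i ≠ 0 ∧ ((x • Leech.oct i : leechLattice) : GolayPt → ℤ) ∈ stdCross := by
  classical
  by_contra hcon
  push Not at hcon
  choose w hw hw0 hws hwc using fun i (hi : c i ≠ 0) => frame_or_support hxc h12 hi (hcon i hi)
  obtain ⟨i0, hi0⟩ : ∃ i, c i ≠ 0 := by
    by_contra h
    push Not at h
    rw [show c = 0 from funext h, hammingNorm_zero] at h12
    omega
  have hsame : ∀ i (hi : c i ≠ 0), Leech.red2 (w i hi) = Leech.red2 (w i0 hi0) := fun i hi => by
    obtain ⟨d, hd⟩ := diff_oct i i0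
    have hdiff : ∀ q, ((x • Leech.oct i : leechLattice) : GolayPt → ℤ) q -
        ((x • Leech.oct i0 : leechLattice) : GolayPt → ℤ) q =
          2 * ((x • d : leechLattice) : GolayPt → ℤ) q := fun q => by
      have e : Leech.oct i = Leech.oct i0 + (d + d) := Subtype.ext (by
        push_cast
        rw [← two_nsmul, ← hd]; abel)
      rw [e, Leech.smul_add', Leech.smul_add', AddSubgroup.coe_add, AddSubgroup.coe_add,
        Pi.add_apply, Pi.add_apply]
      ring
    obtain ⟨q0, hq0⟩ : ∃ q0, c q0 = 0 := by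
      by_contra h
      push Not at h
      have : hammingNorm c = 24 := by
        rw [hammingNorm, Finset.filter_true_of_mem fun q _ => h q, Finset.card_univ, card_pt]
      omega
    have hdq : ∀ q, ((x • d : leechLattice) : GolayPt → ℤ) q = 2 * (w i hi q - w i0 hi0 q) :=
      fun q => by have := hdiff q; rw [hw i hi, hw i0 hi0] at this; omega
    obtain ⟨y, hy, hred⟩ := half_mem (x • d).2 (q0 := q0)
      (by rw [hdq, hw0 i hi q0 hq0, hw0 i0 hi0 q0 hq0]; ring)
    have hyw : y = fun q => w i hi q - w i0 hi0 q := funext fun q => by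
      have := hdq q; rw [hy] at this; omega
    rw [hyw] at hred
    have e : Leech.red2 (fun q => w i hi q - w i0 hi0 q) =
        Leech.red2 (w i hi) + Leech.red2 (w i0 hi0) := by
      funext q
      simp [Leech.red2, CharTwo.sub_eq_add]
    rw [e] at hred
    rcases word_in_dodecad hc h12 hred (fun q hq => by
      simp [Leech.red2, hw0 i hi q hq, hw0 i0 hi0 q hq]) with h | h
    · exact funext fun q => CharTwo.add_eq_zero.1 (congrFun h q)
    · exfalso
      have h1 := hammingDist_triangle (Leech.red2 (w i hi)) 0 (Leech.red2 (w i0 hi0))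
      rw [hammingDist_zero_right, hammingDist_zero_left, hammingDist_eq_hammingNorm] at h1
      have e2 : -(Leech.red2 (w i hi)) + Leech.red2 (w i0 hi0) = c := by
        rw [← h]; funext q; simp [CharTwo.neg_eq]
      rw [e2, h12] at h1
      have := hwc i hi
      have := hwc i0 hi0
      omega
  obtain ⟨q, hq, hqw⟩ : ∃ q, c q ≠ 0 ∧ Leech.red2 (w i0 hi0) q = 0 := by
    by_contra h
    push Not at h
    have hle : hammingNorm c ≤ hammingNorm (Leech.red2 (w i0 hi0)) := by
      refine Finset.card_le_card fun q hq => ?_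
      simp only [Finset.mem_filter, Finset.mem_univ, true_and] at hq ⊢
      exact h q hq
    have := hwc i0 hi0
    omega
  have hrow : ∀ j : Sup c, blk c x ⟨q, hq⟩ j = 0 := fun j => by
    have e := congrFun (hsame j.1 j.2) q
    rw [hqw] at e
    have h0 : w j.1 j.2 q = 0 := by
      rcases hws j.1 j.2 q with e' | e' | e' <;> simp_all [Leech.red2]
    simp [blk, matQ, hw j.1 j.2 q, h0]
  have hA : blk c x * blk c x ^ n = 1 := by rw [← pow_succ', ← blk_pow hxc, hn, blk_one]
  have := congrFun (congrFun hA ⟨q, hq⟩) ⟨q, hq⟩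
  rw [Matrix.mul_apply, Matrix.one_apply_eq] at this
  simp [hrow] at this

/-- No element of order 7 or 13 commutes with the sign change of a dodecad. -/
theorem eq_one_dodec {x : ↥Co0} {p : ℕ} (hp : p = 7 ∨ p = 13) (hx : x ^ p = 1)
    (hxc : Commute x (Leech.signCo0 c hc)) (h12 : hammingNorm c = 12) : x = 1 := by
  classical
  obtain ⟨i, hi, hfr⟩ := exists_frame hxc h12 (n := p - 1)
    (by rw [show p - 1 + 1 = p by omega]; exact hx)
  obtain ⟨σ, hσ, d, hd, e⟩ := Leech.exists_of_stdFrame x (frame_of_one hfr)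
  refine eq_one_of_frame hp hx e fun hp7 => ?_
  subst hp7
  have hmap : ∀ j, c j ≠ 0 → c (σ j) ≠ 0 := fun j hj h0 => by
    have h := frame_smul e (σ j) j
    rw [coord_zero hxc h0 hj, if_pos rfl] at h
    split_ifs at h <;> norm_num at h
  have hmem : ∀ j, c (σ j) ≠ 0 ↔ c j ≠ 0 := fun j => by
    refine ⟨fun h => ?_, hmap j⟩
    let S := Finset.univ.filter fun j => c j ≠ 0
    have himg : S.image σ = S := Finset.eq_of_subset_of_card_le
      (Finset.image_subset_iff.2 fun a ha => by simpa [S] using hmap a (by simpa [S] using ha))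
      (by rw [Finset.card_image_of_injective _ σ.injective])
    have : σ j ∈ S := by simpa [S] using h
    rw [← himg, Finset.mem_image] at this
    obtain ⟨a, ha, hae⟩ := this
    rw [σ.injective hae] at ha
    simpa [S] using ha
  have hσ7 : σ ^ 7 = 1 := Equiv.ext fun j => by
    have := frame_pow e j 7
    rw [hx, one_smul] at this
    rw [Equiv.Perm.one_apply]
    exact (oct_inj this).symm
  let τ : Equiv.Perm (Sup c) := σ.subtypePerm hmem
  have hτ : τ ^ 7 ^ 1 = 1 := by
    rw [pow_one]
    refine Equiv.ext fun j => Subtype.ext ?_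
    rw [Equiv.Perm.subtypePerm_pow]
    show (σ ^ 7) j.1 = j.1
    rw [hσ7, Equiv.Perm.one_apply]
  have hfix := Equiv.Perm.card_compl_support_modEq (p := 7) (hp := ⟨by norm_num⟩) hτ
  rw [show Fintype.card (Sup c) = 12 by rw [← h12]; exact Fintype.card_subtype _] at hfix
  have h5 : 5 ≤ (τ.supportᶜ).card := by
    rw [Nat.ModEq] at hfix
    omega
  refine ⟨((τ.supportᶜ.toList).map Subtype.val).take 5,
    ((Finset.nodup_toList _).map Subtype.val_injective).take, by simp [h5], ?_⟩
  refine (List.map_congr_left fun j hj => ?_).trans (List.map_id _)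
  obtain ⟨a, ha, rfl⟩ := List.mem_map.1 (List.mem_of_mem_take hj)
  rw [Finset.mem_toList, Finset.mem_compl, Equiv.Perm.notMem_support] at ha
  exact congrArg Subtype.val ha

/-- An element of order 13 commutes with no sign change of an octad or dodecad. -/
theorem eq_one_thirteen {x : ↥Co0} (hx : x ^ 13 = 1) (hxc : Commute x (Leech.signCo0 c hc))
    (hw : hammingNorm c = 8 ∨ hammingNorm c = 12) : x = 1 := by
  rcases hw with h8 | h12
  · refine eq_one_of_blk (.inr rfl) hx hxc ?_ (by omega)
    refine eq_one_of_pow _ (p := 13) (by norm_num) (by rw [← blk_pow hxc, hx, blk_one]) ?_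
    rw [show Fintype.card (Sup c) = 8 by rw [← h8]; exact Fintype.card_subtype _]
    norm_num
  · exact eq_one_dodec (.inr rfl) hx hxc h12

/-- An element of order 7 commuting with an octad sign change and with a root of minus one
is trivial. -/
theorem eq_one_seven {x s : ↥Co0} (hx : x ^ 7 = 1) (hxc : Commute x (Leech.signCo0 c hc))
    (hsc : Commute s (Leech.signCo0 c hc)) (hxs : Commute x s) (hs : s * s = Leech.zneg)
    (h8 : hammingNorm c = 8) : x = 1 := by
  refine eq_one_of_blk (.inl rfl) hx hxc ?_ (by omega)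
  have h7 : blk c x ^ 7 = 1 := by rw [← blk_pow hxc, hx, blk_one]
  have hs2 : blk c s ^ 2 = -1 := by rw [← blk_pow hsc, pow_two, hs, blk_zneg]
  have hcm : Commute (blk c x) (blk c s) := by
    unfold Commute SemiconjBy
    rw [← blk_mul hsc, hxs.eq, blk_mul hxc]
  have h14 : (blk c x * blk c s) ^ 14 = -1 := by
    rw [hcm.mul_pow, show 14 = 7 * 2 by norm_num, pow_mul, h7, one_pow, one_mul,
      show 7 * 2 = 2 * 7 by norm_num, pow_mul, hs2]
    exact Odd.neg_one_pow ⟨3, rfl⟩
  have h2 := sq_eq_neg_one _ h14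
    (by rw [show Fintype.card (Sup c) = 8 by rw [← h8]; exact Fintype.card_subtype _]; norm_num)
  rw [hcm.mul_pow, hs2, mul_neg, mul_one, neg_inj] at h2
  calc blk c x = blk c x ^ (2 * 4) := by
        rw [show 2 * 4 = 7 + 1 by norm_num, pow_succ, h7, one_mul]
    _ = 1 := by rw [pow_mul, h2, one_pow]

end Cfsg.Agent.StdCo0
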