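import Cfsg.Agent.StdCo0.Witness
import Cfsg.Agent.StdCo0.Dodec
import Cfsg.Agent.CoOneType.Main
import Cfsg.Agent.CoOneType.Build
import Cfsg.Agent.S5388
import Cfsg.Agent.Co1Out.Main

/-!
The classes of involutions and of roots of minus one, and the automorphisms, of the double cover.
-/

set_option autoImplicit false

namespace Cfsg.Agent.StdCo0

open Cfsg Cfsg.Agent Cfsg.Agent.Co1Out

theorem zneg_central (g : ↥Co0) : g * Leech.zneg = Leech.zneg * g := Leech.zneg_comm g

theorem zneg_mul_self : Leech.zneg * Leech.zneg = 1 :=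
  matQ_inj (by rw [matQ_mul, matQ_zneg, matQ_one, neg_mul_neg, Matrix.one_mul])

theorem zneg_ne_one : Leech.zneg ≠ (1 : ↥Co0) := fun e => by
  have h := congrArg matQ e
  rw [matQ_zneg, matQ_one] at h
  have h' := congrFun (congrFun h none) none
  simp at h'
  norm_num at h'

theorem trace_sign (c : GolayPt → ZMod 2) (hc : c ∈ golayCode) :
    (matQ (Leech.signCo0 c hc)).trace = 24 - 2 * (hammingNorm c : ℚ) := by
  rw [matQ_sign, Matrix.trace_diagonal]
  have : ∀ i, sgnQ c i = 1 - 2 * (if c i ≠ 0 then 1 else 0) := fun i => by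
    by_cases h : c i = 0 <;> simp [sgnQ, h]; norm_num
  rw [Finset.sum_congr rfl fun i _ => this i, Finset.sum_sub_distrib, ← Finset.mul_sum,
    Finset.sum_boole, Finset.sum_const, Finset.card_univ, card_pt]
  simp [hammingNorm]

theorem trace_eO : (matQ eO).trace = 8 := by
  rw [eO_def, trace_sign, weight_O]; norm_num

theorem trace_eD : (matQ eD).trace = 0 := by
  rw [eD_def, trace_sign, weight_D]; norm_num

theorem trace_isConj {a b : ↥Co0} (h : IsConj a b) : (matQ a).trace = (matQ b).trace := by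
  obtain ⟨g, rfl⟩ := isConj_iff.1 h
  exact (trace_conj g a).symm

theorem trace_neg (a : ↥Co0) : (matQ (Leech.zneg * a)).trace = -(matQ a).trace := by
  rw [matQ_mul, matQ_zneg, neg_one_mul, Matrix.trace_neg]

theorem eO_ne_one : eO ≠ 1 := fun e => by
  have := trace_eO; rw [e, matQ_one, Matrix.trace_one, card_pt] at this; norm_num at this

theorem eO_ne_neg : eO ≠ Leech.zneg := fun e => by
  have := trace_eO; rw [e, matQ_zneg, Matrix.trace_neg, Matrix.trace_one, card_pt] at this; norm_num at this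

theorem eD_ne_one : eD ≠ 1 := fun e => by
  have := trace_eD; rw [e, matQ_one, Matrix.trace_one, card_pt] at this; norm_num at this

theorem eD_ne_neg : eD ≠ Leech.zneg := fun e => by
  have := trace_eD; rw [e, matQ_zneg, Matrix.trace_neg, Matrix.trace_one, card_pt] at this; norm_num at this

theorem toC_one_iff {a : ↥Co0} : toC a = 1 ↔ a = 1 ∨ a = Leech.zneg := by
  rw [← map_one toC, eq_comm, toC_eq_iff, one_mul]

theorem orderOf_toC {a : ↥Co0} (h : toC (a * a) = 1) (h1 : a ≠ 1) (h2 : a ≠ Leech.zneg) :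
    orderOf (toC a) = 2 :=
  orderOf_eq_prime (by rw [pow_two, ← map_mul, h]) fun e => (toC_one_iff.1 e).elim h1 h2

/-- Images conjugate means conjugate up to sign. -/
theorem isConj_toC {a b : ↥Co0} (h : IsConj (toC a) (toC b)) :
    IsConj a b ∨ IsConj (Leech.zneg * a) b := by
  obtain ⟨g', hg⟩ := isConj_iff.1 h
  obtain ⟨g, rfl⟩ := QuotientGroup.mk'_surjective _ g'
  rw [← map_inv, ← map_mul, ← map_mul, toC_eq_iff] at hg
  rcases hg with e | e
  · exact .inl (isConj_iff.2 ⟨g, e.symm⟩)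
  · refine .inr (isConj_iff.2 ⟨g, ?_⟩)
    rw [e, ← mul_assoc g, zneg_central g]
    simp only [mul_assoc]
    rw [← zneg_central]
    simp only [mul_assoc]

theorem sq_conj_neg {a b : ↥Co0} (h : IsConj a b ∨ IsConj (Leech.zneg * a) b) :
    IsConj (a * a) (b * b) := by
  rcases h with h | h <;> obtain ⟨g, rfl⟩ := isConj_iff.1 h <;> refine isConj_iff.2 ⟨g, ?_⟩
  · group
  · rw [show g * (Leech.zneg * a) * g⁻¹ * (g * (Leech.zneg * a) * g⁻¹) =
        g * (Leech.zneg * (a * Leech.zneg) * a) * g⁻¹ by group, zneg_central,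
      ← mul_assoc Leech.zneg, zneg_mul_self, one_mul]

/-- The three classes in the simple quotient. -/
theorem three {a0 : ↥Co0} (ha0 : a0 * a0 = Leech.zneg) (x : Spor.Co1) (hx : orderOf x = 2) :
    IsConj (toC a0) x ∨ IsConj (toC eO) x ∨ IsConj (toC eD) x := by
  obtain ⟨z, hz, Q, hQn, hF, hQ, hcard, ⟨e⟩, hnwc⟩ := S5388.result
  haveI := hQn
  haveI : Finite Spor.Co1 := Nat.finite_of_card_ne_zero (by rw [Co1Out.card_co1]; norm_num)
  obtain ⟨S⟩ := CoOneType.exists_co z hz Q hF hQ hcard e hnwc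
  obtain ⟨p, q, r, -, -, -, -, -, -, hall⟩ := CoOneType.CoOne.three_classes S
  have ha1 : a0 ≠ 1 := fun e => zneg_ne_one (by rw [← ha0, e, one_mul])
  have ha2 : a0 ≠ Leech.zneg := fun e => zneg_ne_one (by rw [← ha0, e, zneg_mul_self])
  have hA := orderOf_toC (toC_one_iff.2 (.inr ha0)) ha1 ha2
  have hO := orderOf_toC (toC_one_iff.2 (.inl eO_sq)) eO_ne_one eO_ne_neg
  have hD := orderOf_toC (toC_one_iff.2 (.inl eD_sq)) eD_ne_one eD_ne_neg
  have nAO : ¬ IsConj (toC a0) (toC eO) := fun h => by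
    have := sq_conj_neg (isConj_toC h)
    rw [ha0, eO_sq, isConj_one_left] at this
    exact zneg_ne_one this
  have nAD : ¬ IsConj (toC a0) (toC eD) := fun h => by
    have := sq_conj_neg (isConj_toC h)
    rw [ha0, eD_sq, isConj_one_left] at this
    exact zneg_ne_one this
  have nOD : ¬ IsConj (toC eO) (toC eD) := fun h => by
    rcases isConj_toC h with h' | h' <;> have := trace_isConj h' <;>
      simp only [trace_neg, trace_eO, trace_eD] at this <;> norm_num at this
  have tr : ∀ {u v w : Spor.Co1}, IsConj u w → IsConj v w → IsConj u v := fun h h' => h.trans h'.symm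
  rcases hall x hx with h0 | h0 | h0 <;>
    rcases hall _ hA with h1 | h1 | h1 <;> rcases hall _ hO with h2 | h2 | h2 <;>
    rcases hall _ hD with h3 | h3 | h3 <;>
    first
    | exact absurd (tr h1 h2) nAO
    | exact absurd (tr h1 h3) nAD
    | exact absurd (tr h2 h3) nOD
    | exact .inl (tr h1 h0)
    | exact .inr (.inl (tr h2 h0))
    | exact .inr (.inr (tr h3 h0))

/-- Noncentral involutions. -/
theorem invol_class {a : ↥Co0} (h2 : a * a = 1) (h1 : a ≠ 1) (hn : a ≠ Leech.zneg) :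
    IsConj eO a ∨ IsConj (Leech.zneg * eO) a ∨ IsConj eD a := by
  obtain ⟨a0, x, ha0, -⟩ := wit13
  rcases three ha0 _ (orderOf_toC (toC_one_iff.2 (.inl h2)) h1 hn) with h | h | h
  · have := sq_conj_neg (isConj_toC h)
    rw [ha0, h2, isConj_one_left] at this
    exact absurd this zneg_ne_one
  · exact (isConj_toC h).elim .inl (.inr ∘ .inl)
  · exact .inr (.inr ((isConj_toC h).elim id fun h' => conj_neg_D.trans h'))

/-- Square roots of minus one. -/
theorem root_class {a0 a : ↥Co0} (ha0 : a0 * a0 = Leech.zneg) (ha : a * a = Leech.zneg) :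
    IsConj a0 a ∨ IsConj (Leech.zneg * a0) a := by
  have h1 : a ≠ 1 := fun e => zneg_ne_one (by rw [← ha, e, one_mul])
  have h2 : a ≠ Leech.zneg := fun e => zneg_ne_one (by rw [← ha, e, zneg_mul_self])
  rcases three ha0 _ (orderOf_toC (toC_one_iff.2 (.inr ha)) h1 h2) with h | h | h
  · exact isConj_toC h
  · have := sq_conj_neg (isConj_toC h)
    rw [ha, eO_sq, isConj_one_right] at this
    exact absurd this zneg_ne_one
  · have := sq_conj_neg (isConj_toC h)
    rw [ha, eD_sq, isConj_one_right] at this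
    exact absurd this zneg_ne_one

theorem center_cases {a : ↥Co0} (h : a ∈ Subgroup.center ↥Co0) : a = 1 ∨ a = Leech.zneg := by
  rw [← SetLike.mem_coe, Leech.card_center_eq] at h
  simpa using h

/-- Automorphisms of a perfect double cover are inner. -/
theorem aut_inner (hP : Group.IsPerfect ↥Co0) (φ : MulAut ↥Co0) :
    ∃ g : ↥Co0, ∀ x, φ x = g * x * g⁻¹ := by
  haveI : (Subgroup.center ↥Co0).Characteristic := inferInstance
  let ψ : MulAut Spor.Co1 := QuotientGroup.congr (Subgroup.center ↥Co0) (Subgroup.center ↥Co0) φ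
    (Subgroup.characteristic_iff_map_eq.1 inferInstance φ)
  have hψ : ∀ x, ψ (toC x) = toC (φ x) := fun x => rfl
  have : Subsingleton (Cfsg.Out Spor.Co1) := (Nat.card_eq_one_iff_unique.1 Co1Out.card_out).1
  have htop : Inn Spor.Co1 = ⊤ := QuotientGroup.subsingleton_iff.1
    (show Subsingleton (MulAut Spor.Co1 ⧸ Inn Spor.Co1) from this)
  obtain ⟨g', hg'⟩ : ψ ∈ Inn Spor.Co1 := by rw [htop]; exact Subgroup.mem_top _
  obtain ⟨g, rfl⟩ := QuotientGroup.mk'_surjective _ g'
  refine ⟨g, ?_⟩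
  let θ : ↥Co0 → ↥Co0 := fun x => φ x * (g * x * g⁻¹)⁻¹
  have hθ : ∀ x, θ x ∈ Subgroup.center ↥Co0 := fun x => by
    have e : toC (φ x) = toC g * toC x * (toC g)⁻¹ := by rw [← hψ, ← hg']; rfl
    rw [← QuotientGroup.eq_one_iff]
    show toC (φ x * (g * x * g⁻¹)⁻¹) = 1
    rw [map_mul, map_inv, map_mul, map_mul, map_inv, e, mul_inv_cancel]
  have hmul : ∀ x y, θ (x * y) = θ x * θ y := fun x y => by
    have hc := Subgroup.mem_center_iff.1 (hθ y) (g * x⁻¹ * g⁻¹)
    calc θ (x * y) = φ x * (θ y * (g * x⁻¹ * g⁻¹)) := by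
          simp only [θ, map_mul]; group
      _ = φ x * ((g * x⁻¹ * g⁻¹) * θ y) := by rw [hc]
      _ = θ x * θ y := by simp only [θ]; group
  let θH : ↥Co0 →* ↥(Subgroup.center ↥Co0) :=
    MonoidHom.mk' (fun x => ⟨θ x, hθ x⟩) fun x y => Subtype.ext (hmul x y)
  have h1 : commutator ↥Co0 ≤ θH.ker := by
    rw [commutator_eq_closure, Subgroup.closure_le]
    rintro _ ⟨p, q, rfl⟩
    rw [SetLike.mem_coe, MonoidHom.mem_ker, map_commutatorElement, commutatorElement_eq_one_iff_mul_comm]
    exact Subtype.ext ((Subgroup.mem_center_iff.1 (θH q).2 (θH p : ↥Co0)))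
  intro x
  have hx : x ∈ θH.ker := h1 (by rw [hP.commutator_eq_top]; exact Subgroup.mem_top _)
  have : θ x = 1 := congrArg Subtype.val (MonoidHom.mem_ker.1 hx)
  exact mul_inv_eq_one.1 this

end Cfsg.Agent.StdCo0
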