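import Cfsg.Agent.StdCo0.Classes

/-!
The central involution of a standard component isomorphic to the double cover is isolated.
-/

set_option autoImplicit false
set_option linter.unusedSectionVars false

namespace Cfsg.Agent.StdCo0

open Cfsg Cfsg.Agent

/-- What a standard component gives at its central involution. -/
structure Hyp (G : Type*) [Group G] where
  /-- the component -/
  ι : ↥Co0 →* G
  inj : Function.Injective ι
  dec : ∀ g : G, Commute g (ι Leech.zneg) → ∃ a k, (∀ b, Commute k (ι b)) ∧ g = ι a * k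
  uniq : ∀ k : G, (∀ b, Commute k (ι b)) → k * k = 1 → k = 1 ∨ k = ι Leech.zneg
  two : ∀ c d : G, Commute c (ι Leech.zneg) → Commute d (ι Leech.zneg) → ∀ n : ℕ,
    (c * d * c⁻¹ * d⁻¹) ^ 2 ^ n = 1 → ∃ a, c * d * c⁻¹ * d⁻¹ = ι a

variable {G : Type*} [Group G]

namespace Hyp

variable (S : Hyp G)

/-- The central involution. -/
def z : G := S.ι Leech.zneg

/-- `a` gives a conjugate of the central involution. -/
def F (a : ↥Co0) : Prop := IsConj S.z (S.ι a)

theorem z_sq : S.z * S.z = 1 := by rw [z, ← map_mul, zneg_mul_self, map_one]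

theorem z_ne : S.z ≠ 1 := fun e => zneg_ne_one (S.inj (e.trans (map_one S.ι).symm))

theorem z_comm (a : ↥Co0) : Commute (S.ι a) S.z := by
  rw [z, Commute, SemiconjBy, ← map_mul, ← map_mul, zneg_central]

theorem F_congr {a b : ↥Co0} (h : IsConj a b) : S.F a ↔ S.F b := by
  obtain ⟨g, rfl⟩ := isConj_iff.1 h
  have : IsConj (S.ι a) (S.ι (g * a * g⁻¹)) := isConj_iff.2 ⟨S.ι g, by simp⟩
  exact ⟨fun e => e.trans this, fun e => e.trans this.symm⟩

theorem ι_commute {a b : ↥Co0} (h : Commute a b) : Commute (S.ι a) (S.ι b) := h.map S.ι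

theorem of_commute {a b : ↥Co0} (h : Commute (S.ι a) (S.ι b)) : Commute a b :=
  S.inj (by rw [map_mul, map_mul]; exact h.eq)

theorem conj_commute {g c y : G} (h : Commute c y) : Commute (g * c * g⁻¹) (g * y * g⁻¹) :=
  h.map (MulAut.conj g).toMonoidHom

/-- Products of commutators of two-power order stay in the component. -/
theorem lift {g y : G} (hg : g * y * g⁻¹ = S.z) {v : ↥Co0}
    (hy : ∀ c, Commute c v → Commute (S.ι c) y) {x : ↥Co0} (hx : x ∈ comS v) :
    ∃ x1, g * S.ι x * g⁻¹ = S.ι x1 := by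
  let f : ↥Co0 →* G := (MulAut.conj g).toMonoidHom.comp S.ι
  have hle : comS v ≤ S.ι.range.comap f := by
    refine (Subgroup.closure_le _).2 ?_
    rintro _ ⟨c, d, hc, hd, rfl, n, hn⟩
    have key : ∀ c, Commute c v → Commute (f c) (S.ι Leech.zneg) := fun c hc => by
      show Commute (f c) S.z
      rw [← hg]; exact conj_commute (hy c hc)
    obtain ⟨a, ha⟩ := S.two (f c) (f d) (key c hc) (key d hd) n (by
      rw [← map_inv, ← map_inv, ← map_mul, ← map_mul, ← map_mul, ← map_pow, hn, map_one])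
    rw [← map_inv, ← map_inv, ← map_mul, ← map_mul, ← map_mul] at ha
    exact ⟨a, ha.symm⟩
  obtain ⟨x1, h⟩ := hle hx
  exact ⟨x1, h.symm⟩

theorem conj_ne {g y : G} (hg : g * y * g⁻¹ = S.z) (hne : y ≠ S.z) : g * S.z * g⁻¹ ≠ S.z :=
  fun e => hne (mul_left_cancel (mul_right_cancel (hg.trans e.symm)))

theorem no_thirteen {v x : ↥Co0} (hv : v * v = 1) (h1 : v ≠ 1) (hn : v ≠ Leech.zneg)
    (hxv : Commute x v) (hx : x ^ 13 = 1) : x = 1 := by
  have key : ∀ {w h : ↥Co0}, Commute x (h * w * h⁻¹) → Commute (h⁻¹ * x * h) w := by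
    intro w h hc
    have := conj_commute (g := h⁻¹) hc
    simpa [mul_assoc] using this
  have conc : ∀ h : ↥Co0, h⁻¹ * x * h = 1 → x = 1 := fun h e => by
    have := congrArg (fun y => h * y * h⁻¹) e
    simpa [mul_assoc] using this
  have hp : ∀ h : ↥Co0, (h⁻¹ * x * h) ^ 13 = 1 := fun h => by
    have := conj_pow (i := 13) (a := h⁻¹) (b := x)
    rw [inv_inv] at this
    rw [this, hx]; simp
  rcases invol_class hv h1 hn with h | h | h <;> obtain ⟨g, rfl⟩ := isConj_iff.1 h <;>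
    refine conc g ?_
  · exact eq_one_thirteen (hp g) (hc := W.wO_mem) (key hxv) (.inl weight_O)
  · refine eq_one_thirteen (hp g) (hc := W.wO_mem) ?_ (.inl weight_O)
    have h2 := ((show Commute (g⁻¹ * x * g) Leech.zneg from zneg_central _).mul_right (key hxv))
    rwa [← mul_assoc, zneg_mul_self, one_mul] at h2
  · exact eq_one_thirteen (hp g) (hc := W.wD_mem) (key hxv) (.inr weight_D)

/-- A fused involution of the centraliser is a noncentral involution of the component. -/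
theorem fused_mem {y : G} (hy : IsConj S.z y) (hc : Commute y S.z) (hne : y ≠ S.z) :
    ∃ a : ↥Co0, y = S.ι a ∧ a * a = 1 ∧ a ≠ 1 ∧ a ≠ Leech.zneg := by
  obtain ⟨h, hh⟩ := isConj_iff.1 hy
  have hy2 : y * y = 1 := by
    rw [← hh, show h * S.z * h⁻¹ * (h * S.z * h⁻¹) = h * (S.z * S.z) * h⁻¹ by group, S.z_sq]
    group
  have hy1 : y ≠ 1 := fun e => S.z_ne (conj_eq_one_iff.1 (hh.trans e))
  obtain ⟨a, k, hk, rfl⟩ := S.dec y hc
  have e2 : S.ι (a * a) * (k * k) = 1 := by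
    rw [map_mul, ← hy2, show S.ι a * k * (S.ι a * k) = S.ι a * (k * S.ι a) * k by group, (hk a).eq]
    group
  have hcen : a * a ∈ Subgroup.center ↥Co0 := Subgroup.mem_center_iff.2 fun b => by
    refine S.of_commute ?_
    rw [eq_inv_of_mul_eq_one_left e2]
    exact ((hk b).mul_left (hk b)).inv_left.symm
  rcases center_cases hcen with ha | ha
  · rw [ha, map_one, one_mul] at e2
    have fin : ∀ b : ↥Co0, S.ι a * k = S.ι b → b * b = 1 →
        ∃ b, S.ι a * k = S.ι b ∧ b * b = 1 ∧ b ≠ 1 ∧ b ≠ Leech.zneg := fun b hb hb2 =>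
      ⟨b, hb, hb2, fun e => hy1 (by rw [hb, e, map_one]), fun e => hne (by rw [hb, e]; rfl)⟩
    rcases S.uniq k hk e2 with rfl | rfl
    · exact fin a (by rw [mul_one]) ha
    · refine fin (a * Leech.zneg) (by rw [map_mul]) ?_
      rw [show a * Leech.zneg * (a * Leech.zneg) = a * (Leech.zneg * a) * Leech.zneg by group,
        ← zneg_central, ← mul_assoc, ha, one_mul, zneg_mul_self]
  · exfalso
    obtain ⟨a0, x, ha0, hx, hx13, hx1⟩ := wit13
    -- move to the fixed root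
    obtain ⟨c, k', hk', hck⟩ : ∃ c k', (∀ b, Commute k' (S.ι b)) ∧
        S.ι c * (S.ι a0 * k') * (S.ι c)⁻¹ = S.ι a * k := by
      rcases root_class ha0 ha with h' | h' <;> obtain ⟨c, hc'⟩ := isConj_iff.1 h'
      · refine ⟨c, k, hk, ?_⟩
        rw [← hc', map_mul, map_mul, map_inv]
        simp only [mul_assoc]
        rw [(hk c).inv_right.eq]
      · have hzk : ∀ b, Commute (S.z * k) (S.ι b) := fun b => (S.z_comm b).symm.mul_left (hk b)
        refine ⟨c, S.z * k, hzk, ?_⟩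
        rw [← hc', map_mul, map_mul, map_inv, map_mul, ← z]
        simp only [mul_assoc]
        rw [(hk c).inv_right.eq]
        simp only [← mul_assoc]
        rw [mul_assoc (S.ι c), (S.z_comm a0).eq, ← mul_assoc]
    obtain ⟨g, hg⟩ : ∃ g, g * (S.ι a0 * k') * g⁻¹ = S.z := by
      refine ⟨h⁻¹ * S.ι c, ?_⟩
      rw [show h⁻¹ * S.ι c * (S.ι a0 * k') * (h⁻¹ * S.ι c)⁻¹ =
        h⁻¹ * (S.ι c * (S.ι a0 * k') * (S.ι c)⁻¹) * h by group, hck, ← hh]
      group
    obtain ⟨x1, hx1e⟩ := S.lift hg (v := a0)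
      (fun c' hc' => (S.ι_commute hc').mul_right (hk' c').symm) hx
    have hx1p : x1 ^ 13 = 1 := S.inj (by
      rw [map_pow, ← hx1e, conj_pow, ← map_pow, hx13, map_one]; group)
    have hx1n : x1 ≠ 1 := fun e => hx1 (S.inj (by
      rw [e, map_one] at hx1e
      rw [map_one, conj_eq_one_iff.1 hx1e]))
    have hb0 : Commute (g * S.ι a0 * g⁻¹) S.z := by
      rw [← hg]; exact conj_commute ((Commute.refl _).mul_right (hk' a0).symm)
    obtain ⟨b, k1, hk1, hb⟩ := S.dec _ hb0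
    have hxa : Commute (S.ι x1) (S.ι b * k1) := by
      rw [← hx1e, ← hb]
      exact conj_commute (S.ι_commute (commute_of_comS hx))
    have hxb : Commute x1 b := S.of_commute (by
      have := hxa.mul_right (hk1 x1).symm.inv_right
      rwa [mul_inv_cancel_right] at this)
    set u := g * S.z * g⁻¹ with hu
    have hu' : u = S.ι (b * b) * (k1 * k1) := by
      rw [hu, z, ← ha0, map_mul, show g * (S.ι a0 * S.ι a0) * g⁻¹ =
        (g * S.ι a0 * g⁻¹) * (g * S.ι a0 * g⁻¹) by group, hb,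
        show S.ι b * k1 * (S.ι b * k1) = S.ι b * (k1 * S.ι b) * k1 by group, (hk1 b).eq, map_mul]
      group
    have hu2 : u * u = 1 := by
      rw [hu, show g * S.z * g⁻¹ * (g * S.z * g⁻¹) = g * (S.z * S.z) * g⁻¹ by group, S.z_sq]
      group
    have hu1 : u ≠ 1 := fun e => S.z_ne (conj_eq_one_iff.1 e)
    have hne' : S.ι a0 * k' ≠ S.z := fun e => hne (by
      rw [← hck, e, (S.z_comm c).eq, mul_inv_cancel_right])
    have huz : u ≠ S.z := S.conj_ne hg hne'
    have hkk : ∀ d, Commute (k1 * k1) (S.ι d) := fun d => (hk1 d).mul_left (hk1 d)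
    have hcen : b * b * (b * b) ∈ Subgroup.center ↥Co0 := Subgroup.mem_center_iff.2 fun d => by
      refine S.of_commute ?_
      have e3 : S.ι (b * b * (b * b)) * ((k1 * k1) * (k1 * k1)) = 1 := by
        rw [map_mul S.ι (b * b), ← hu2, hu',
          show S.ι (b * b) * (k1 * k1) * (S.ι (b * b) * (k1 * k1)) =
            S.ι (b * b) * ((k1 * k1) * S.ι (b * b)) * (k1 * k1) by group, (hkk _).eq]
        group
      rw [eq_inv_of_mul_eq_one_left e3]
      exact ((hkk d).mul_left (hkk d)).inv_left.symm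
    have kill : ∀ k2 : G, (∀ d, Commute k2 (S.ι d)) → u = k2 → False := fun k2 hk2 e =>
      (S.uniq u (e ▸ hk2) hu2).elim hu1 huz
    rcases center_cases hcen with h4 | h4
    · by_cases hb1 : b * b = 1
      · exact kill _ hkk (by rw [hu', hb1, map_one, one_mul])
      · by_cases hbn : b * b = Leech.zneg
        · exact kill _ (fun d => (S.z_comm d).symm.mul_left (hkk d)) (by rw [hu', hbn]; rfl)
        · exact hx1n (no_thirteen h4 hb1 hbn (hxb.mul_right hxb) hx1p)
    · exact hx1n (no_eighth hx1p (by rw [show 4 = 2 + 2 by norm_num, pow_add, pow_two, h4]) hxb)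

/-- The third class is not fused. -/
theorem not_F_neg : ¬ S.F (Leech.zneg * eO) := by
  intro hF
  obtain ⟨h, hh⟩ := isConj_iff.1 hF
  obtain ⟨x, s, hx, hs, hx7, hx1, hxs, hss⟩ := wit7
  set y := S.ι (Leech.zneg * eO) with hy
  have hg : h⁻¹ * y * h⁻¹⁻¹ = S.z := by rw [← hh]; group
  have hcy : ∀ c, Commute c eO → Commute (S.ι c) y := fun c hc =>
    S.ι_commute ((show Commute c Leech.zneg from zneg_central c).mul_right hc)
  obtain ⟨x1, hx1e⟩ := S.lift hg hcy hx
  obtain ⟨s1, hs1e⟩ := S.lift hg hcy hs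
  have hyz : y ≠ S.z := fun e => eO_ne_one (by
    have := S.inj e
    simpa using this)
  set u := h⁻¹ * S.z * h⁻¹⁻¹ with hu
  have huc : Commute u S.z := by
    rw [← hg]; exact conj_commute (S.z_comm _).symm
  obtain ⟨v, hv, hv2, hv1, hvn⟩ := S.fused_mem (isConj_iff.2 ⟨h⁻¹, rfl⟩) huc (S.conj_ne hg hyz)
  have hx1p : x1 ^ 7 = 1 := S.inj (by
    rw [map_pow, ← hx1e, conj_pow, ← map_pow, hx7, map_one]; group)
  have hx1n : x1 ≠ 1 := fun e => hx1 (S.inj (by
    rw [e, map_one] at hx1e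
    rw [map_one, conj_eq_one_iff.1 hx1e]))
  have hcxs : Commute x1 s1 := S.of_commute (by
    rw [← hx1e, ← hs1e]; exact conj_commute (S.ι_commute hxs))
  have hs2 : s1 * s1 = Leech.zneg := S.inj (by
    rw [map_mul, ← hs1e, show h⁻¹ * S.ι s * h⁻¹⁻¹ * (h⁻¹ * S.ι s * h⁻¹⁻¹) =
      h⁻¹ * (S.ι s * S.ι s) * h⁻¹⁻¹ by group, ← map_mul, hss]
    exact hg)
  have hxv : Commute x1 v := S.of_commute (by
    rw [← hx1e, ← hv]; exact conj_commute (S.z_comm x))
  have hsv : Commute s1 v := S.of_commute (by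
    rw [← hs1e, ← hv]; exact conj_commute (S.z_comm s))
  have key : ∀ {m w h : ↥Co0}, Commute m (h * w * h⁻¹) → Commute (h⁻¹ * m * h) w := by
    intro m w h hc
    have := conj_commute (g := h⁻¹) hc
    simpa [mul_assoc] using this
  have strip : ∀ {m : ↥Co0}, Commute m (Leech.zneg * eO) → Commute m eO := fun {m} hc => by
    have h2 := (show Commute m Leech.zneg from zneg_central m).mul_right hc
    rwa [← mul_assoc, zneg_mul_self, one_mul] at h2
  refine hx1n ?_
  have conc : ∀ g : ↥Co0, g⁻¹ * x1 * g = 1 → x1 = 1 := fun g e => by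
    have := congrArg (fun y => g * y * g⁻¹) e
    simpa [mul_assoc] using this
  have hp : ∀ g : ↥Co0, (g⁻¹ * x1 * g) ^ 7 = 1 := fun g => by
    have := conj_pow (i := 7) (a := g⁻¹) (b := x1)
    rw [inv_inv] at this
    rw [this, hx1p]; simp
  have hq : ∀ g : ↥Co0, g⁻¹ * s1 * g * (g⁻¹ * s1 * g) = Leech.zneg := fun g => by
    rw [show g⁻¹ * s1 * g * (g⁻¹ * s1 * g) = g⁻¹ * (s1 * s1) * g by group, hs2, zneg_central,
      mul_assoc, inv_mul_cancel, mul_one]
  have hxs' : ∀ g : ↥Co0, Commute (g⁻¹ * x1 * g) (g⁻¹ * s1 * g) := fun g => by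
    have := conj_commute (g := g⁻¹) hcxs
    rwa [inv_inv] at this
  rcases invol_class hv2 hv1 hvn with h' | h' | h' <;> obtain ⟨g, rfl⟩ := isConj_iff.1 h' <;>
    refine conc g ?_
  · exact eq_one_seven (hc := W.wO_mem) (hp g) (key hxv) (key hsv) (hxs' g) (hq g) weight_O
  · exact eq_one_seven (hc := W.wO_mem) (hp g) (strip (key hxv)) (strip (key hsv)) (hxs' g) (hq g)
      weight_O
  · exact eq_one_dodec (hc := W.wD_mem) (.inl rfl) (hp g) (key hxv) weight_D

theorem ne_of_conj {a b : ↥Co0} (h : IsConj a b) (ha : a ≠ 1) : b ≠ 1 := fun e => by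
  rw [e, isConj_one_left] at h
  exact ha h

/-- The fusion seen from an involution `v` of the component and a partner `t`. -/
theorem rule {v t : ↥Co0} (hF : S.F v) (hv2 : v * v = 1) (hvn : v ≠ Leech.zneg) (ht : t ∈ comS v) (ht2 : t * t = 1)
    (h1 : t ≠ 1) (htv : t * v ≠ 1) :
    (S.F t ∧ S.F eO ∧ ¬ S.F (t * v)) ∨ (¬ S.F t ∧ S.F eO ∧ S.F (t * v)) ∨
      (¬ S.F t ∧ ¬ S.F eO ∧ ¬ S.F (t * v)) ∨ ((S.F t ↔ S.F eD) ∧ (S.F (t * v) ↔ S.F eD)) := by
  obtain ⟨h, hh⟩ := isConj_iff.1 hF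
  have hg : h⁻¹ * S.ι v * h⁻¹⁻¹ = S.z := by rw [← hh]; group
  obtain ⟨t1, ht1⟩ := S.lift hg (fun c hc => S.ι_commute hc) ht
  have htt : t1 * t1 = 1 := S.inj (by
    rw [map_mul, ← ht1, show h⁻¹ * S.ι t * h⁻¹⁻¹ * (h⁻¹ * S.ι t * h⁻¹⁻¹) =
      h⁻¹ * (S.ι t * S.ι t) * h⁻¹⁻¹ by group, ← map_mul, ht2, map_one]; group)
  have e1 : S.F t ↔ S.F t1 := by
    have : IsConj (S.ι t) (S.ι t1) := isConj_iff.2 ⟨h⁻¹, ht1⟩
    exact ⟨fun e => e.trans this, fun e => e.trans this.symm⟩
  have e2 : S.F (t * v) ↔ S.F (Leech.zneg * t1) := by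
    have : IsConj (S.ι (t * v)) (S.ι (Leech.zneg * t1)) := isConj_iff.2 ⟨h⁻¹, by
      rw [map_mul, show h⁻¹ * (S.ι t * S.ι v) * h⁻¹⁻¹ =
        (h⁻¹ * S.ι t * h⁻¹⁻¹) * (h⁻¹ * S.ι v * h⁻¹⁻¹) by group, ht1, hg, (S.z_comm t1).eq, map_mul]
      rfl⟩
    exact ⟨fun e => e.trans this, fun e => e.trans this.symm⟩
  have n1 : t1 ≠ 1 := fun e => h1 (S.inj (by
    rw [e, map_one] at ht1
    rw [map_one, conj_eq_one_iff.1 ht1]))
  have n2 : t1 ≠ Leech.zneg := fun e => htv (by
    have et : t = v := S.inj (mul_right_cancel (b := h⁻¹⁻¹) (mul_left_cancel (a := h⁻¹) (by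
      rw [← mul_assoc, ← mul_assoc, ht1, hg, e]; rfl)))
    rw [et, hv2])
  rw [e1, e2]
  have mulz : ∀ {a b : ↥Co0}, IsConj a b → IsConj (Leech.zneg * a) (Leech.zneg * b) := fun {a b} hab => by
    obtain ⟨g, rfl⟩ := isConj_iff.1 hab
    exact isConj_iff.2 ⟨g, by rw [← mul_assoc g, zneg_central g]; simp only [mul_assoc]⟩
  have hN := S.not_F_neg
  rcases invol_class htt n1 n2 with h' | h' | h'
  · rw [← S.F_congr h', ← S.F_congr (mulz h')]
    by_cases hO : S.F eO
    · exact .inl ⟨hO, hO, hN⟩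
    · exact .inr (.inr (.inl ⟨hO, hO, hN⟩))
  · rw [← S.F_congr h', ← S.F_congr (mulz h'), ← mul_assoc, zneg_mul_self, one_mul]
    by_cases hO : S.F eO
    · exact .inr (.inl ⟨hN, hO, hO⟩)
    · exact .inr (.inr (.inl ⟨hN, hO, hO⟩))
  · rw [← S.F_congr h', ← S.F_congr (mulz h'), ← S.F_congr conj_neg_D]
    exact .inr (.inr (.inr ⟨Iff.rfl, Iff.rfl⟩))

/-- The central involution is isolated. -/
theorem isolated : IsIsolatedInvolution S.z := by
  refine ⟨orderOf_eq_prime (by rw [pow_two, S.z_sq]) S.z_ne, fun g hc => by_contra fun hne => ?_⟩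
  obtain ⟨a, ha, ha2, ha1, han⟩ := S.fused_mem (isConj_iff.2 ⟨g, rfl⟩) hc.symm hne
  have hFa : S.F a := isConj_iff.2 ⟨g, ha⟩
  have hN := S.not_F_neg
  have hor : S.F eO ∨ S.F eD := by
    rcases invol_class ha2 ha1 han with h | h | h
    · exact .inl ((S.F_congr h).2 hFa)
    · exact absurd ((S.F_congr h).2 hFa) hN
    · exact .inr ((S.F_congr h).2 hFa)
  have sq_one : ∀ {b c : ↥Co0}, IsConj b c → b * b = 1 → c * c = 1 := fun {b c} hbc hb => by
    obtain ⟨q, rfl⟩ := isConj_iff.1 hbc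
    rw [show q * b * q⁻¹ * (q * b * q⁻¹) = q * (b * b) * q⁻¹ by group, hb]
    group
  have nW : Leech.zneg * eO ≠ 1 := fun e => eO_ne_neg (by
    have := congrArg (fun y => Leech.zneg * y) e
    simpa [← mul_assoc, zneg_mul_self] using this)
  have sW : Leech.zneg * eO * (Leech.zneg * eO) = 1 := by
    rw [show Leech.zneg * eO * (Leech.zneg * eO) = Leech.zneg * (eO * Leech.zneg) * eO by group,
      zneg_central, ← mul_assoc, zneg_mul_self, one_mul, eO_sq]
  by_cases hO : S.F eO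
  · by_cases hD : S.F eD
    · obtain ⟨t, ht, h1, h2⟩ := pairWW
      have r := S.rule hO eO_sq eO_ne_neg ht (sq_one h1 sW) (ne_of_conj h1 nW) (ne_of_conj h2 nW)
      rw [← S.F_congr h1, ← S.F_congr h2] at r
      tauto
    · obtain ⟨t, ht, h1, h2⟩ := pairOO
      have r := S.rule hO eO_sq eO_ne_neg ht (sq_one h1 eO_sq) (ne_of_conj h1 eO_ne_one)
        (ne_of_conj h2 eO_ne_one)
      rw [← S.F_congr h1, ← S.F_congr h2] at r
      tauto
  · have hD := hor.resolve_left hO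
    obtain ⟨t, ht, h1, h2⟩ := pairDO
    have r := S.rule hD eD_sq eD_ne_neg ht (sq_one h1 eD_sq) (ne_of_conj h1 eD_ne_one)
      (ne_of_conj h2 eO_ne_one)
    rw [← S.F_congr h1, ← S.F_congr h2] at r
    tauto

end Hyp

end Cfsg.Agent.StdCo0
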