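import Mathlib
import Cfsg.Agent.Leech.Co1
import Cfsg.Agent.Leech.Cross
import Cfsg.Agent.Leech.Monomial
import Cfsg.Agent.Leech.Orbits
import Cfsg.Agent.Co1Out.Monomial

/-!
Rational matrices of lattice automorphisms and what they say about elements of order 7 and 13
commuting with sign changes and with roots of minus one.
-/

set_option autoImplicit false

namespace Cfsg.Agent.StdCo0

open Cfsg Cfsg.Agent Matrix Polynomial

/-- The matrix of an automorphism. -/
noncomputable def matQ (g : ↥Co0) : Matrix GolayPt GolayPt ℚ :=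
  Matrix.of fun q i => ((((g • Leech.oct i : leechLattice) : GolayPt → ℤ) q : ℤ) : ℚ) / 8

theorem matQ_mulVec (g : ↥Co0) (v : leechLattice) (q : GolayPt) :
    (matQ g *ᵥ fun i => (((v : GolayPt → ℤ) i : ℤ) : ℚ)) q =
      ((((g • v : leechLattice) : GolayPt → ℤ) q : ℤ) : ℚ) := by
  have h := congrArg (fun z : ℤ => (z : ℚ)) (Leech.act_expand g v q)
  push_cast at h
  simp only [Matrix.mulVec, dotProduct, matQ, Matrix.of_apply]
  have : ((((g • v : leechLattice) : GolayPt → ℤ) q : ℤ) : ℚ) = (∑ i, (((v : GolayPt → ℤ) i : ℤ) : ℚ) *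
      ((((g • Leech.oct i : leechLattice) : GolayPt → ℤ) q : ℤ) : ℚ)) / 8 := by linarith
  rw [this, Finset.sum_div]
  exact Finset.sum_congr rfl fun i _ => by ring

theorem matQ_mul (g h : ↥Co0) : matQ (g * h) = matQ g * matQ h := by
  ext q i
  rw [Matrix.mul_apply]
  show ((((g * h) • Leech.oct i : leechLattice) : GolayPt → ℤ) q : ℚ) / 8 = _
  rw [mul_smul, ← matQ_mulVec]
  simp only [Matrix.mulVec, dotProduct, Finset.sum_div]
  exact Finset.sum_congr rfl fun j _ => by
    rw [show matQ h j i = ((((h • Leech.oct i : leechLattice) : GolayPt → ℤ) j : ℤ) : ℚ) / 8 from rfl]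
    ring

theorem matQ_one : matQ 1 = 1 := by
  ext q i
  rw [matQ, Matrix.of_apply, one_smul, Matrix.one_apply]
  show ((Pi.single (M := fun _ => ℤ) i 8 q : ℤ) : ℚ) / 8 = _
  by_cases h : q = i
  · subst h; rw [if_pos rfl, Pi.single_eq_same]; norm_num
  · rw [if_neg h, Pi.single_eq_of_ne h]; simp

/-- The representation. -/
noncomputable def matQHom : ↥Co0 →* Matrix GolayPt GolayPt ℚ where
  toFun := matQ
  map_one' := matQ_one
  map_mul' := matQ_mul

theorem matQ_pow (g : ↥Co0) (n : ℕ) : matQ (g ^ n) = matQ g ^ n := map_pow matQHom g n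

theorem matQ_inj {g h : ↥Co0} (e : matQ g = matQ h) : g = h := by
  refine Leech.ext_of_oct fun i => Subtype.ext (funext fun q => ?_)
  have := congrFun (congrFun e q) i
  simp only [matQ, Matrix.of_apply] at this
  have : ((((g • Leech.oct i : leechLattice) : GolayPt → ℤ) q : ℤ) : ℚ) =
      ((((h • Leech.oct i : leechLattice) : GolayPt → ℤ) q : ℤ) : ℚ) := by linarith
  exact_mod_cast this

/-- The sign at a point. -/
def sgnQ (c : GolayPt → ZMod 2) (i : GolayPt) : ℚ := if c i = 0 then 1 else -1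

theorem matQ_sign (c : GolayPt → ZMod 2) (hc : c ∈ golayCode) :
    matQ (Leech.signCo0 c hc) = Matrix.diagonal (sgnQ c) := by
  ext q i
  rw [matQ, Matrix.of_apply, Leech.signCo0_apply, Matrix.diagonal_apply]
  simp only [Leech.negOn, Leech.oct, sgnQ]
  by_cases h : q = i
  · subst h; by_cases hc0 : c q = 0 <;> simp [hc0]
  · rw [if_neg h, Pi.single_eq_of_ne h]; split_ifs <;> simp

theorem matQ_zneg : matQ Leech.zneg = -1 := by
  rw [Leech.zneg, matQ_sign]
  ext q i
  rw [Matrix.diagonal_apply, Matrix.neg_apply, Matrix.one_apply]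
  by_cases h : q = i
  · simp [h, sgnQ]
  · simp [h]

theorem trace_conj (g a : ↥Co0) : (matQ (g * a * g⁻¹)).trace = (matQ a).trace := by
  rw [matQ_mul, Matrix.trace_mul_comm, ← matQ_mul, ← mul_assoc, inv_mul_cancel, one_mul]

/-- The support of a word. -/
abbrev Sup (c : GolayPt → ZMod 2) : Type := {i : GolayPt // c i ≠ 0}

/-- The block on a support. -/
noncomputable def blk (c : GolayPt → ZMod 2) (g : ↥Co0) : Matrix (Sup c) (Sup c) ℚ :=
  (matQ g).submatrix Subtype.val Subtype.val

variable {c : GolayPt → ZMod 2} {hc : c ∈ golayCode}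

theorem off_zero {g : ↥Co0} (hg : Commute g (Leech.signCo0 c hc)) {q i : GolayPt}
    (hq : c q = 0) (hi : c i ≠ 0) : matQ g q i = 0 ∧ matQ g i q = 0 := by
  have h := congrArg matQ hg.eq
  rw [matQ_mul, matQ_mul, matQ_sign] at h
  have h1 := congrFun (congrFun h q) i
  have h2 := congrFun (congrFun h i) q
  simp only [Matrix.mul_diagonal, Matrix.diagonal_mul, sgnQ, if_pos hq, if_neg hi] at h1 h2
  constructor <;> linarith

theorem blk_mul {g h : ↥Co0} (hh : Commute h (Leech.signCo0 c hc)) :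
    blk c (g * h) = blk c g * blk c h := by
  ext q i
  simp only [blk, Matrix.submatrix_apply, matQ_mul, Matrix.mul_apply]
  rw [← Finset.sum_subtype (p := fun j => c j ≠ 0) (Finset.univ.filter fun j => c j ≠ 0) (by simp)
    (fun j => matQ g q.1 j * matQ h j i.1)]
  rw [Finset.sum_filter]
  refine Finset.sum_congr rfl fun j _ => ?_
  by_cases hj : c j ≠ 0
  · rw [if_pos hj]
  · rw [if_neg hj, (off_zero hh (not_not.1 hj) i.2).1, mul_zero]

theorem blk_one : blk c 1 = 1 := by
  rw [blk, matQ_one]; exact Matrix.submatrix_one _ Subtype.val_injective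

theorem blk_pow {g : ↥Co0} (hg : Commute g (Leech.signCo0 c hc)) : ∀ n : ℕ, blk c (g ^ n) = blk c g ^ n
  | 0 => by rw [pow_zero, pow_zero, blk_one]
  | n + 1 => by rw [pow_succ, pow_succ, blk_mul hg, blk_pow hg n]

theorem blk_sign : blk c (Leech.signCo0 c hc) = -1 := by
  ext q i
  simp only [blk, Matrix.submatrix_apply, matQ_sign, Matrix.diagonal_apply, Matrix.neg_apply,
    Matrix.one_apply, Subtype.val_inj]
  split_ifs with h
  · simp [sgnQ, q.2]
  · simp

theorem blk_zneg : blk c Leech.zneg = -1 := by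
  ext q i
  simp only [blk, Matrix.submatrix_apply, matQ_zneg, Matrix.neg_apply, Matrix.one_apply, Subtype.val_inj]

/-- A rational matrix of prime order is at least one less in size than the prime. -/
theorem eq_one_of_pow {n : Type*} [Fintype n] [DecidableEq n] (A : Matrix n n ℚ) {p : ℕ}
    (hp : p.Prime) (h : A ^ p = 1) (hn : Fintype.card n + 1 < p) : A = 1 := by
  have haeval : aeval A (X ^ p - 1 : ℚ[X]) = 0 := by simp [h]
  have hdvd := minpoly.dvd ℚ A haeval
  have := Fact.mk hp
  rw [← cyclotomic_prime_mul_X_sub_one ℚ p] at hdvd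
  have hcop : IsCoprime (minpoly ℚ A) (cyclotomic p ℚ) := by
    refine ((cyclotomic.irreducible_rat hp.pos).coprime_iff_not_dvd.2 fun hd => ?_).symm
    have h1 := natDegree_le_of_dvd hd (minpoly.ne_zero (Matrix.isIntegral A))
    have h2 : (minpoly ℚ A).natDegree ≤ Fintype.card n :=
      (natDegree_le_of_dvd (Matrix.minpoly_dvd_charpoly A) (Matrix.charpoly_monic A).ne_zero).trans
        (le_of_eq (Matrix.charpoly_natDegree_eq_dim A))
    rw [natDegree_cyclotomic, Nat.totient_prime hp] at h1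
    omega
  have h2 := aeval_eq_zero_of_dvd_aeval_eq_zero (hcop.dvd_of_dvd_mul_left hdvd) (minpoly.aeval ℚ A)
  simp only [map_sub, aeval_X, map_one] at h2
  exact sub_eq_zero.1 h2

theorem coprime_sub_two {p : ℚ[X]} {m : ℕ} (h : p ∣ X ^ m + 1) : IsCoprime p (X ^ m - 1) := by
  refine IsCoprime.of_isCoprime_of_dvd_left ?_ h
  refine ⟨C (2⁻¹ : ℚ), -C (2⁻¹ : ℚ), ?_⟩
  have : (C (2⁻¹ : ℚ) : ℚ[X]) * 2 = 1 := by
    rw [show (2 : ℚ[X]) = C (2 : ℚ) from (map_ofNat C 2).symm, ← C_mul]
    norm_num
  linear_combination this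

/-- A rational matrix with `A ^ 14 = -1` and fewer than twelve rows squares to minus one. -/
theorem sq_eq_neg_one {n : Type*} [Fintype n] [DecidableEq n] (A : Matrix n n ℚ)
    (h : A ^ 14 = -1) (hn : Fintype.card n < 12) : A ^ 2 = -1 := by
  have h0 : minpoly ℚ A ∣ (X ^ 14 + 1 : ℚ[X]) := minpoly.dvd ℚ A (by simp [h])
  have h1 : minpoly ℚ A ∣ (X ^ 28 - 1 : ℚ[X]) :=
    h0.trans ⟨X ^ 14 - 1, by ring⟩
  rw [← prod_cyclotomic_eq_X_pow_sub_one (by norm_num : 0 < 28) ℚ,
    show Nat.divisors 28 = insert 28 (insert 4 (Nat.divisors 14)) by decide +kernel,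
    Finset.prod_insert (by decide +kernel), Finset.prod_insert (by decide +kernel),
    prod_cyclotomic_eq_X_pow_sub_one (by norm_num : 0 < 14)] at h1
  have hdeg : (minpoly ℚ A).natDegree ≤ Fintype.card n :=
    (natDegree_le_of_dvd (Matrix.minpoly_dvd_charpoly A) (Matrix.charpoly_monic A).ne_zero).trans
      (le_of_eq (Matrix.charpoly_natDegree_eq_dim A))
  have hcop : IsCoprime (minpoly ℚ A) (cyclotomic 28 ℚ) := by
    refine ((cyclotomic.irreducible_rat (by norm_num)).coprime_iff_not_dvd.2 fun hd => ?_).symm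
    have h2 := natDegree_le_of_dvd hd (minpoly.ne_zero (Matrix.isIntegral A))
    rw [natDegree_cyclotomic, show Nat.totient 28 = 12 by decide +kernel] at h2
    omega
  have h2 := aeval_eq_zero_of_dvd_aeval_eq_zero
    ((coprime_sub_two h0).dvd_of_dvd_mul_right (hcop.dvd_of_dvd_mul_left h1)) (minpoly.aeval ℚ A)
  have h4 : (cyclotomic 4 ℚ) = X ^ 2 + 1 := by
    rw [show 4 = 2 ^ (1 + 1) by norm_num, cyclotomic_prime_pow_eq_geom_sum Nat.prime_two]
    simp [Finset.sum_range_succ, add_comm]
  rw [h4] at h2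
  simpa [eq_neg_iff_add_eq_zero] using h2

set_option maxRecDepth 8000 in
/-- A rational matrix with `A ^ 52 = -1` and fewer than forty-eight rows has `A ^ 4 = -1`. -/
theorem fourth_eq_neg_one {n : Type*} [Fintype n] [DecidableEq n] (A : Matrix n n ℚ)
    (h : A ^ 52 = -1) (hn : Fintype.card n < 48) : A ^ 4 = -1 := by
  have h0 : minpoly ℚ A ∣ (X ^ 52 + 1 : ℚ[X]) := minpoly.dvd ℚ A (by simp [h])
  have h1 : minpoly ℚ A ∣ (X ^ 104 - 1 : ℚ[X]) :=
    h0.trans ⟨X ^ 52 - 1, by ring⟩
  rw [← prod_cyclotomic_eq_X_pow_sub_one (by norm_num : 0 < 104) ℚ,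
    show Nat.divisors 104 = insert 104 (insert 8 (Nat.divisors 52)) by decide +kernel,
    Finset.prod_insert (by decide +kernel), Finset.prod_insert (by decide +kernel),
    prod_cyclotomic_eq_X_pow_sub_one (by norm_num : 0 < 52)] at h1
  have hdeg : (minpoly ℚ A).natDegree ≤ Fintype.card n :=
    (natDegree_le_of_dvd (Matrix.minpoly_dvd_charpoly A) (Matrix.charpoly_monic A).ne_zero).trans
      (le_of_eq (Matrix.charpoly_natDegree_eq_dim A))
  have hcop : IsCoprime (minpoly ℚ A) (cyclotomic 104 ℚ) := by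
    refine ((cyclotomic.irreducible_rat (by norm_num)).coprime_iff_not_dvd.2 fun hd => ?_).symm
    have h2 := natDegree_le_of_dvd hd (minpoly.ne_zero (Matrix.isIntegral A))
    rw [natDegree_cyclotomic, show Nat.totient 104 = 48 by decide +kernel] at h2
    omega
  have h2 := aeval_eq_zero_of_dvd_aeval_eq_zero
    ((coprime_sub_two h0).dvd_of_dvd_mul_right (hcop.dvd_of_dvd_mul_left h1)) (minpoly.aeval ℚ A)
  have h8 : (cyclotomic 8 ℚ) = X ^ 4 + 1 := by
    rw [show 8 = 2 ^ (2 + 1) by norm_num, cyclotomic_prime_pow_eq_geom_sum Nat.prime_two]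
    simp [Finset.sum_range_succ, add_comm]
  rw [h8] at h2
  simpa [eq_neg_iff_add_eq_zero] using h2

theorem card_pt : Fintype.card GolayPt = 24 := by simp

/-- An element of order 13 commutes with no fourth root of minus one. -/
theorem no_eighth {x b : ↥Co0} (hx : x ^ 13 = 1) (hb : b ^ 4 = Leech.zneg) (hc : Commute x b) :
    x = 1 := by
  have h52 : (x * b) ^ 52 = Leech.zneg := by
    rw [hc.mul_pow, show 52 = 13 * 4 by norm_num, pow_mul, hx, one_pow, one_mul,
      show 13 * 4 = 4 * 13 by norm_num, pow_mul, hb]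
    have h2 : Leech.zneg ^ 2 = 1 := matQ_inj (by rw [matQ_pow, matQ_zneg, matQ_one, neg_one_sq])
    rw [show 13 = 2 * 6 + 1 by norm_num, pow_succ, pow_mul, h2, one_pow, one_mul]
  have h4 := fourth_eq_neg_one (matQ (x * b)) (by rw [← matQ_pow, h52, matQ_zneg]) (by rw [card_pt]; norm_num)
  have e : x ^ 4 * b ^ 4 = Leech.zneg := by
    rw [← hc.mul_pow]; exact matQ_inj (by rw [matQ_pow, h4, matQ_zneg])
  rw [hb] at e
  have h1 : x ^ 4 = 1 := by simpa using e
  have : x ^ (4 * 10) = x := by
    rw [show 4 * 10 = 13 * 3 + 1 by norm_num, pow_succ, pow_mul, hx, one_pow, one_mul]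
  rw [← this, pow_mul, h1, one_pow]

theorem smul_oct_of_col {g : ↥Co0} {i : GolayPt} (h : ∀ q, matQ g q i = if q = i then 1 else 0) :
    g • Leech.oct i = Leech.oct i := by
  refine Subtype.ext (funext fun q => ?_)
  have := h q
  rw [matQ, Matrix.of_apply] at this
  show _ = Pi.single (M := fun _ => ℤ) i 8 q
  by_cases hq : q = i
  · subst hq
    rw [if_pos rfl] at this
    rw [Pi.single_eq_same]
    have : ((((g • Leech.oct q : leechLattice) : GolayPt → ℤ) q : ℤ) : ℚ) = ((8 : ℤ) : ℚ) := by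
      push_cast; linarith
    exact_mod_cast this
  · rw [if_neg hq] at this
    rw [Pi.single_eq_of_ne hq]
    have : ((((g • Leech.oct i : leechLattice) : GolayPt → ℤ) q : ℤ) : ℚ) = ((0 : ℤ) : ℚ) := by
      push_cast; linarith
    exact_mod_cast this

/-- An element with trivial block fixes the frame vectors of the support. -/
theorem fix_of_blk {g : ↥Co0} (hg : Commute g (Leech.signCo0 c hc)) (h : blk c g = 1)
    {i : GolayPt} (hi : c i ≠ 0) : g • Leech.oct i = Leech.oct i := by
  refine smul_oct_of_col fun q => ?_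
  by_cases hq : c q = 0
  · rw [(off_zero hg hq hi).1, if_neg fun e => hi (by rw [← e]; exact hq)]
  · have := congrFun (congrFun h ⟨q, hq⟩) ⟨i, hi⟩
    simpa [blk, Matrix.one_apply] using this

theorem diff_oct (i j : GolayPt) :
    ∃ w : leechLattice, (Leech.oct i : GolayPt → ℤ) - (Leech.oct j : GolayPt → ℤ) = 2 • (w : GolayPt → ℤ) := by
  refine ⟨Leech.fourPair i j 1 (-1) (by norm_num), funext fun q => ?_⟩
  simp only [Leech.oct, Leech.fourPair, Pi.sub_apply, Pi.smul_apply, Pi.add_apply, Pi.single_apply,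
    smul_eq_mul, nsmul_eq_mul, Nat.cast_ofNat]
  split_ifs <;> norm_num

theorem norm_oct (i : GolayPt) : sqNorm (Leech.oct i : GolayPt → ℤ) = 64 := by
  rw [sqNorm, Finset.sum_eq_single i (fun b _ hb => by simp [Leech.oct, Pi.single_eq_of_ne hb]) (by simp)]
  simp [Leech.oct]

/-- One frame vector kept keeps the frame. -/
theorem frame_of_one {g : ↥Co0} {i : GolayPt}
    (h : ((g • Leech.oct i : leechLattice) : GolayPt → ℤ) ∈ stdCross) (j : GolayPt) :
    ((g • Leech.oct j : leechLattice) : GolayPt → ℤ) ∈ stdCross := by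
  obtain ⟨w, hw⟩ := diff_oct i j
  refine Leech.stdCross_class h (by rw [Leech.sqNorm_smul, norm_oct]) (g • w).2 ?_
  have e : Leech.oct i = Leech.oct j + (w + w) := Subtype.ext (by
    push_cast
    rw [← two_nsmul, ← hw]; abel)
  rw [e, Leech.smul_add', Leech.smul_add', AddSubgroup.coe_add, AddSubgroup.coe_add, two_nsmul]
  abel

theorem frame_smul {g : ↥Co0} {σ : Equiv.Perm GolayPt} {hσ : σ ∈ M24} {d : GolayPt → ZMod 2}
    {hd : d ∈ golayCode} (e : g = Leech.signCo0 d hd * Leech.permCo0 σ hσ) (q i : GolayPt) :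
    ((g • Leech.oct i : leechLattice) : GolayPt → ℤ) q =
      (if d q = 0 then 1 else -1) * (if q = σ i then 8 else 0) := by
  rw [e, mul_smul, Leech.signCo0_apply]
  simp only [Leech.negOn, Leech.permCo0_apply, Leech.oct, Pi.single_apply]
  have hiff : σ⁻¹ q = i ↔ q = σ i := by
    rw [Equiv.Perm.inv_eq_iff_eq]
  by_cases hq : q = σ i
  · rw [if_pos hq, if_pos (hiff.2 hq)]
    split_ifs <;> norm_num
  · rw [if_neg hq, if_neg (mt hiff.1 hq)]
    split_ifs <;> norm_num

theorem frame_pow {g : ↥Co0} {σ : Equiv.Perm GolayPt} {hσ : σ ∈ M24} {d : GolayPt → ZMod 2}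
    {hd : d ∈ golayCode} (e : g = Leech.signCo0 d hd * Leech.permCo0 σ hσ) (i : GolayPt) :
    ∀ n : ℕ, ((g ^ n) • Leech.oct i : leechLattice) = Leech.oct ((σ ^ n) i) ∨
      ((g ^ n) • Leech.oct i : leechLattice) = -Leech.oct ((σ ^ n) i)
  | 0 => Or.inl (by rw [pow_zero, pow_zero, one_smul, Equiv.Perm.one_apply])
  | n + 1 => by
    have step : ∀ j, (g • Leech.oct j : leechLattice) = Leech.oct (σ j) ∨
        (g • Leech.oct j : leechLattice) = -Leech.oct (σ j) := fun j => by
      by_cases hd0 : d (σ j) = 0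
      · left
        refine Subtype.ext (funext fun q => ?_)
        rw [frame_smul e]
        by_cases hq : q = σ j
        · subst hq; simp [hd0, Leech.oct]
        · simp [hq, Leech.oct]
      · right
        refine Subtype.ext (funext fun q => ?_)
        rw [frame_smul e]
        by_cases hq : q = σ j
        · subst hq; simp [hd0, Leech.oct]
        · simp [hq, Leech.oct]
    rw [pow_succ', pow_succ', mul_smul, Equiv.Perm.mul_apply]
    have hneg : ∀ v : leechLattice, g • -v = -(g • v) := fun v => by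
      rw [← Leech.zneg_smul, ← Leech.zneg_smul, ← mul_smul, ← mul_smul]
      congr 1
      exact (Subgroup.mem_center_iff.1 (by
        rw [← SetLike.mem_coe, Leech.card_center_eq]; exact Or.inr rfl) g)
    rcases frame_pow e i n with h | h <;> rw [h]
    · exact step _
    · rw [hneg]
      rcases step ((σ ^ n) i) with h' | h' <;> rw [h']
      · exact Or.inr rfl
      · exact Or.inl (neg_neg _)

theorem oct_inj {i j : GolayPt} (h : Leech.oct i = Leech.oct j ∨ Leech.oct i = -Leech.oct j) : i = j := by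
  by_contra hne
  rcases h with h | h <;>
    have h' := congrArg (fun v : leechLattice => (v : GolayPt → ℤ) i) h <;>
    simp [Leech.oct, Pi.single_eq_of_ne hne] at h'

theorem five_fix {σ : Equiv.Perm GolayPt} (hσ : σ ∈ M24) {p : ℕ} (hp : p = 7 ∨ p = 13) (hσp : σ ^ p = 1)
    (h5 : p = 7 → ∃ l : List GolayPt, l.Nodup ∧ l.length = 5 ∧ l.map σ = l) : σ = 1 := by
  classical
  by_contra hne
  have hpp : p.Prime := by rcases hp with rfl | rfl <;> norm_num
  have hord : orderOf (⟨σ, hσ⟩ : ↥M24) = p := by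
    have := Fact.mk hpp
    exact orderOf_eq_prime (Subtype.ext (by push_cast; exact hσp)) fun e => hne (congrArg Subtype.val e)
  rcases hp with rfl | rfl
  · obtain ⟨l, hl, hlen, hfix⟩ := h5 rfl
    let T := {m : List GolayPt // m.Nodup ∧ m.length = 5}
    letI : MulAction ↥M24 T :=
      { smul := fun g m => ⟨m.1.map (g : Equiv.Perm GolayPt), m.2.1.map (g : Equiv.Perm GolayPt).injective,
          by rw [List.length_map]; exact m.2.2⟩
        one_smul := fun m => Subtype.ext (by
          show List.map ((1 : ↥M24) : Equiv.Perm GolayPt) m.1 = m.1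
          simp)
        mul_smul := fun g h m => Subtype.ext (by
          show List.map ((g * h : ↥M24) : Equiv.Perm GolayPt) m.1 = List.map (g : Equiv.Perm GolayPt) (List.map (h : Equiv.Perm GolayPt) m.1)
          rw [List.map_map]; rfl) }
    let t0 : T := ⟨l, hl, hlen⟩
    have hsurj : MulAction.orbit ↥M24 t0 = Set.univ := Set.eq_univ_of_forall fun m => by
      obtain ⟨g, hg, hgm⟩ := Leech.exists_move l m.1 hl m.2.1 (hlen.trans m.2.2.symm) hlen.le
      exact ⟨⟨g, hg⟩, Subtype.ext hgm⟩
    have hT : Nat.card T = 24 * 23 * 22 * 21 * 20 := by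
      have : Nat.card T = Nat.card (Fin 5 ↪ GolayPt) := Nat.card_congr
        { toFun := fun m => ⟨fun k => m.1[k.1]'(by rw [m.2.2]; exact k.2), fun a b e =>
            Fin.ext ((m.2.1.getElem_inj_iff).1 e)⟩
          invFun := fun f => ⟨List.ofFn f, List.nodup_ofFn.2 f.injective, List.length_ofFn⟩
          left_inv := fun m => Subtype.ext (List.ext_getElem (by simp [m.2.2]) fun a _ _ => List.getElem_ofFn _)
          right_inv := fun f => DFunLike.ext _ _ fun k => List.getElem_ofFn _ }
      rw [this, Nat.card_eq_fintype_card, Fintype.card_embedding_eq, Fintype.card_fin, card_pt]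
      decide +kernel
    have hst := MulAction.index_stabilizer ↥M24 t0
    have hmul := Subgroup.card_mul_index (MulAction.stabilizer ↥M24 t0)
    rw [hst, hsurj, Set.ncard_univ, hT, Co1Out.card_M24] at hmul
    have hmem : (⟨σ, hσ⟩ : ↥M24) ∈ MulAction.stabilizer ↥M24 t0 := Subtype.ext hfix
    have hd := Subgroup.orderOf_dvd_natCard _ hmem
    rw [hord] at hd
    have h48 : Nat.card (MulAction.stabilizer ↥M24 t0) = 48 := by omega
    rw [h48] at hd
    norm_num at hd
  · have hd := orderOf_dvd_natCard (⟨σ, hσ⟩ : ↥M24)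
    rw [hord, Co1Out.card_M24] at hd
    norm_num at hd

/-- An element of order 7 or 13 keeping the frame and, for 7, fixing five points is trivial. -/
theorem eq_one_of_frame {x : ↥Co0} {p : ℕ} (hp : p = 7 ∨ p = 13) (hx : x ^ p = 1)
    {σ : Equiv.Perm GolayPt} {hσ : σ ∈ M24} {d : GolayPt → ZMod 2} {hd : d ∈ golayCode}
    (e : x = Leech.signCo0 d hd * Leech.permCo0 σ hσ)
    (h5 : p = 7 → ∃ l : List GolayPt, l.Nodup ∧ l.length = 5 ∧ l.map σ = l) : x = 1 := by
  have hσp : σ ^ p = 1 := Equiv.ext fun i => by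
    have := frame_pow e i p
    rw [hx, one_smul] at this
    rw [Equiv.Perm.one_apply]
    exact (oct_inj this).symm
  obtain rfl := five_fix hσ hp hσp h5
  have hp1 : Leech.permCo0 1 hσ = 1 := Subtype.ext (Equiv.ext fun v => Subtype.ext rfl)
  have h2 : x * x = 1 := by
    rw [e, hp1, mul_one]
    exact matQ_inj (by
      rw [matQ_mul, matQ_sign, matQ_one, Matrix.diagonal_mul_diagonal, ← Matrix.diagonal_one]
      congr 1; funext i; simp [sgnQ]; split_ifs <;> norm_num)
  rcases hp with rfl | rfl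
  · rwa [show 7 = 2 * 3 + 1 by norm_num, pow_succ, pow_mul, pow_two, h2, one_pow, one_mul] at hx
  · rwa [show 13 = 2 * 6 + 1 by norm_num, pow_succ, pow_mul, pow_two, h2, one_pow, one_mul] at hx

/-- An element of order 7 or 13 trivial on an octad is trivial. -/
theorem eq_one_of_blk {x : ↥Co0} {p : ℕ} (hp : p = 7 ∨ p = 13) (hx : x ^ p = 1)
    (hxc : Commute x (Leech.signCo0 c hc)) (h : blk c x = 1) (h8 : 5 ≤ hammingNorm c) : x = 1 := by
  obtain ⟨l0, hl0, hlen, hsup⟩ : ∃ l : List GolayPt, l.Nodup ∧ 5 ≤ l.length ∧ ∀ i ∈ l, c i ≠ 0 :=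
    ⟨(Finset.univ.filter fun i => c i ≠ 0).toList, Finset.nodup_toList _, by
      rw [Finset.length_toList]; exact h8, fun i hi => by simpa using hi⟩
  obtain ⟨i, hi⟩ := List.exists_mem_of_length_pos (by omega : 0 < l0.length)
  have hfix := fun j hj => fix_of_blk hxc h (hsup j hj)
  obtain ⟨σ, hσ, d, hd, e⟩ := Leech.exists_of_stdFrame x
    (frame_of_one (i := i) (by rw [hfix i hi]; exact Leech.oct_mem_stdCross i))
  refine eq_one_of_frame hp hx e fun _ => ⟨l0.take 5, hl0.take, by simp [hlen], ?_⟩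
  refine (List.map_congr_left fun j hj => ?_).trans (List.map_id _)
  have := frame_pow e j 1
  rw [pow_one, pow_one, hfix j (List.mem_of_mem_take hj)] at this
  exact (oct_inj this).symm

end Cfsg.Agent.StdCo0
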