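import Cfsg.Agent.StdCo0.Data

/-!
The witnesses: elements of order 13 and 7 built from commutators of two-power order, and the
word pairs for the fusion rule.
-/

set_option autoImplicit false

namespace Cfsg.Agent.StdCo0

open Cfsg Cfsg.Agent.CoSection

/-- The octad sign change. -/
noncomputable def eO : ↥Co0 := W.eO.g

/-- The dodecad sign change. -/
noncomputable def eD : ↥Co0 := W.eD.g

theorem eO_def : eO = Leech.signCo0 (Leech.bitWord 6554826) W.wO_mem := rfl

theorem eD_def : eD = Leech.signCo0 (Leech.bitWord 681662) W.wD_mem := rfl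

theorem weight_O : hammingNorm (Leech.bitWord 6554826) = 8 := by decide +kernel

theorem weight_D : hammingNorm (Leech.bitWord 681662) = 12 := by decide +kernel

theorem eO_sq : eO * eO = 1 := g_eq (A := W.eO.comp W.eO) (B := oneG) (by decide +kernel)

theorem eD_sq : eD * eD = 1 := g_eq (A := W.eD.comp W.eD) (B := oneG) (by decide +kernel)

/-- a word for `wit13` -/
def wit13_tA : Leech.LGen := prodG [W.uA, W.hA, invG W.uAM W.uAM_ok, invG W.hAM W.hAM_ok]

/-- a word for `wit13` -/
def wit13_tB : Leech.LGen := prodG [W.uB, W.hB, invG W.uBM W.uBM_ok, invG W.hBM W.hBM_ok]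

theorem wit13 : ∃ a x : ↥Co0, a * a = Leech.zneg ∧ x ∈ comS a ∧ x ^ 13 = 1 ∧ x ≠ 1 := by
  refine ⟨W.a0.g, (wit13_tA.comp wit13_tB).g, g_eq (A := W.a0.comp W.a0) (B := negG) (by decide +kernel), ?_, ?_,
    g_ne (A := wit13_tA.comp wit13_tB) (B := oneG) (by decide +kernel)⟩
  · show _ * _ ∈ _
    exact mul_mem (mem_comS (v := W.a0) rfl rfl (by decide +kernel) (by decide +kernel) (by decide +kernel))
      (mem_comS (v := W.a0) rfl rfl (by decide +kernel) (by decide +kernel) (by decide +kernel))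
  · rw [← powG_g]
    exact g_eq (B := oneG) (by decide +kernel)

/-- a word for `wit7` -/
def wit7_t1 : Leech.LGen := prodG [W.p1, W.q1, invG W.p1M W.p1M_ok, invG W.q1M W.q1M_ok]

/-- a word for `wit7` -/
def wit7_t2 : Leech.LGen := prodG [W.p2, W.q2, invG W.p2M W.p2M_ok, invG W.q2M W.q2M_ok]

/-- a word for `wit7` -/
def wit7_t3 : Leech.LGen := prodG [W.p3, W.q3, invG W.p3M W.p3M_ok, invG W.q3M W.q3M_ok]

/-- a word for `wit7` -/
def wit7_tS : Leech.LGen := prodG [W.eS, W.tS, W.eS, invG W.tSM W.tSM_ok]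

theorem wit7 : ∃ x s : ↥Co0, x ∈ comS eO ∧ s ∈ comS eO ∧ x ^ 7 = 1 ∧ x ≠ 1 ∧ Commute x s ∧
    s * s = Leech.zneg * eO := by
  refine ⟨(wit7_t1.comp wit7_t2).g, (wit7_tS.comp wit7_t3).g, ?_, ?_, ?_,
    g_ne (A := wit7_t1.comp wit7_t2) (B := oneG) (by decide +kernel),
    commute_of (by decide +kernel),
    g_eq (A := (wit7_tS.comp wit7_t3).comp (wit7_tS.comp wit7_t3)) (B := negG.comp W.eO) (by decide +kernel)⟩
  · show _ * _ ∈ _
    exact mul_mem (mem_comS (v := W.eO) rfl rfl (by decide +kernel) (by decide +kernel) (by decide +kernel))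
      (mem_comS (v := W.eO) rfl rfl (by decide +kernel) (by decide +kernel) (by decide +kernel))
  · show _ * _ ∈ _
    exact mul_mem (mem_comS (v := W.eO) (sgn_inv W.wS_mem).symm rfl (by decide +kernel) (by decide +kernel)
      (by decide +kernel))
      (mem_comS (v := W.eO) rfl rfl (by decide +kernel) (by decide +kernel) (by decide +kernel))
  · rw [← powG_g]
    exact g_eq (B := oneG) (by decide +kernel)

/-- a word for `pairOO` -/
def pairOO_t : Leech.LGen := prodG [W.ekO1, W.tO1, W.ekO1, invG W.tO1M W.tO1M_ok]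

theorem pairOO : ∃ t ∈ comS eO, IsConj eO t ∧ IsConj eO (t * eO) := by
  exact ⟨pairOO_t.g, mem_comS (v := W.eO) (sgn_inv W.wkO1_mem).symm rfl (by decide +kernel) (by decide +kernel)
    (by decide +kernel), isConj_of (B := pairOO_t) (P := W.AO1) (by decide +kernel),
    isConj_of (B := pairOO_t.comp W.eO) (P := W.BO1) (by decide +kernel)⟩

/-- a word for `pairWW` -/
def pairWW_t : Leech.LGen := prodG [W.ekW1, W.tW1, W.ekW1, invG W.tW1M W.tW1M_ok]

theorem pairWW : ∃ t ∈ comS eO, IsConj (Leech.zneg * eO) t ∧ IsConj (Leech.zneg * eO) (t * eO) := by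
  exact ⟨pairWW_t.g, mem_comS (v := W.eO) (sgn_inv W.wkW1_mem).symm rfl (by decide +kernel) (by decide +kernel)
    (by decide +kernel), isConj_of (A := negG.comp W.eO) (B := pairWW_t) (P := W.AW1) (by decide +kernel),
    isConj_of (A := negG.comp W.eO) (B := pairWW_t.comp W.eO) (P := W.BW1) (by decide +kernel)⟩

/-- a word for `pairDO` -/
def pairDO_t : Leech.LGen := prodG [W.ekD1, W.tD1, W.ekD1, invG W.tD1M W.tD1M_ok]

theorem pairDO : ∃ t ∈ comS eD, IsConj eD t ∧ IsConj eO (t * eD) := by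
  exact ⟨pairDO_t.g, mem_comS (v := W.eD) (sgn_inv W.wkD1_mem).symm rfl (by decide +kernel) (by decide +kernel)
    (by decide +kernel), isConj_of (B := pairDO_t) (P := W.AD1) (by decide +kernel),
    isConj_of (B := pairDO_t.comp W.eD) (P := W.BD1) (by decide +kernel)⟩

theorem conj_neg_D : IsConj eD (Leech.zneg * eD) :=
  isConj_of (A := W.eD) (B := negG.comp W.eD) (P := W.swD) (by decide +kernel)

end Cfsg.Agent.StdCo0
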